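import Mathlib.GroupTheory.PGroup
import Mathlib.GroupTheory.GroupAction.Quotient
import Mathlib.GroupTheory.GroupAction.SubMulAction

/-!
Elementary counting lemmas for actions of `p`-groups, used to exclude `22` Sylow `3`-subgroups.
-/

set_option autoImplicit false

namespace Cfsg.Agent.TwentyTwo

variable {G : Type*} [Group G] {α : Type*} [MulAction G α] [Finite α] {p : ℕ} [Fact p.Prime]

/-- An invariant set is congruent to its fixed points. -/
theorem ncard_modEq {K : Subgroup G} (hK : IsPGroup p K) (S : Set α)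
    (hS : ∀ x ∈ K, ∀ a ∈ S, x • a ∈ S) :
    S.ncard ≡ {a ∈ S | ∀ x ∈ K, x • a = a}.ncard [MOD p] := by
  let T : SubMulAction K α := ⟨S, fun x a ha => hS x x.2 a ha⟩
  have h := hK.card_modEq_card_fixedPoints T
  have e : {a ∈ S | ∀ x ∈ K, x • a = a} = Subtype.val '' (MulAction.fixedPoints K T : Set T) := by
    ext a
    constructor
    · rintro ⟨ha, hfix⟩
      exact ⟨⟨a, ha⟩, fun x => Subtype.ext (hfix x x.2), rfl⟩
    · rintro ⟨⟨b, hb⟩, hfix, rfl⟩
      exact ⟨hb, fun x hx => congrArg Subtype.val (hfix ⟨x, hx⟩)⟩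
  rw [e, Set.ncard_image_of_injective _ Subtype.val_injective]
  exact h

/-- An invariant set without fixed points has cardinality divisible by `p`. -/
theorem dvd_ncard {K : Subgroup G} (hK : IsPGroup p K) (S : Set α)
    (hS : ∀ x ∈ K, ∀ a ∈ S, x • a ∈ S) (hfix : ∀ a ∈ S, ∃ x ∈ K, x • a ≠ a) : p ∣ S.ncard := by
  have h := ncard_modEq hK S hS
  have e : {a ∈ S | ∀ x ∈ K, x • a = a} = ∅ := by
    rw [Set.eq_empty_iff_forall_notMem]
    rintro a ⟨ha, hall⟩
    obtain ⟨x, hx, hne⟩ := hfix a ha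
    exact hne (hall x hx)
  rw [e, Set.ncard_empty] at h
  exact Nat.modEq_zero_iff_dvd.1 h

/-- An element commuting with a `p`-group and of order prime to `p` fixes the points it moves
inside their own orbit. -/
theorem smul_eq_of_mem_orbit {K : Subgroup G} (hK : IsPGroup p K) {c : G}
    (hc : ∀ x ∈ K, x * c = c * x) (hco : ¬ p ∣ orderOf c) {a : α}
    (h : c • a ∈ MulAction.orbit K a) : c • a = a := by
  obtain ⟨x, hx⟩ := h
  have hx' : (x : G) • a = c • a := hx
  have key : ∀ j : ℕ, c ^ j • a = (x : G) ^ j • a := by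
    intro j
    induction j with
    | zero => simp
    | succ j ih =>
      have hcm : Commute (x : G) c := hc x x.2
      rw [pow_succ', mul_smul, ih, ← mul_smul, ((hcm.pow_left j).eq).symm, mul_smul, ← hx', ← mul_smul,
        ← pow_succ]
  obtain ⟨k, hk⟩ := hK x
  have hk' : (x : G) ^ p ^ k = 1 := congrArg Subtype.val hk
  have h1 := key (orderOf c)
  rw [pow_orderOf_eq_one, one_smul] at h1
  have hco' : Nat.Coprime (orderOf c) (p ^ k) :=
    Nat.Coprime.pow_right k ((Nat.Prime.coprime_iff_not_dvd (Fact.out : p.Prime)).2 hco).symm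
  have hmem : (x : G) ∈ MulAction.stabilizer G a := by
    have h2 : (x : G) ^ orderOf c ∈ MulAction.stabilizer G a := h1.symm
    have h3 : (x : G) ^ p ^ k ∈ MulAction.stabilizer G a := by rw [hk']; exact one_mem _
    have h5 : ((x : G)) ^ ((orderOf c).gcd (p ^ k) : ℤ) ∈ MulAction.stabilizer G a := by
      rw [Nat.gcd_eq_gcd_ab, zpow_add, zpow_mul, zpow_mul, zpow_natCast, zpow_natCast]
      exact mul_mem (zpow_mem h2 _) (zpow_mem h3 _)
    rw [hco'.gcd_eq_one, Nat.cast_one, zpow_one] at h5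
    exact h5
  rw [← hx']
  exact hmem

/-- Disjoint translates: if no nontrivial element of `K` maps `F` into itself then
`|K| |F| ≤ |T|` for any `K`-invariant `T` containing `F`. -/
theorem card_mul_ncard_le [Finite G] (K : Subgroup G) (F T : Set α) (hFT : F ⊆ T)
    (hT : ∀ x ∈ K, ∀ a ∈ T, x • a ∈ T)
    (hF : ∀ x ∈ K, x ≠ 1 → ∀ a ∈ F, x • a ∉ F) : Nat.card K * F.ncard ≤ T.ncard := by
  rw [← Nat.card_coe_set_eq F, ← Nat.card_coe_set_eq T, ← Nat.card_prod]
  refine Nat.card_le_card_of_injective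
    (fun xa : K × F => (⟨(xa.1 : G) • (xa.2 : α), hT _ xa.1.2 _ (hFT xa.2.2)⟩ : T)) ?_
  rintro ⟨x, a⟩ ⟨y, b⟩ h
  have h' : (x : G) • (a : α) = (y : G) • (b : α) := congrArg Subtype.val h
  have h2 : ((y⁻¹ * x : K) : G) • (a : α) = b := by
    rw [Subgroup.coe_mul, Subgroup.coe_inv, mul_smul, h', inv_smul_smul]
  by_cases he : y⁻¹ * x = 1
  · have hxy : y = x := inv_mul_eq_one.1 he
    subst hxy
    exact Prod.ext rfl (Subtype.ext (smul_left_cancel _ h'))
  · exfalso
    refine hF _ (y⁻¹ * x).2 (fun e => he (Subtype.ext e)) a a.2 ?_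
    rw [h2]
    exact b.2

/-- An invariant set all whose orbits have `k` elements has cardinality divisible by `k`. -/
theorem dvd_ncard_of_orbit (K : Subgroup G) (k : ℕ) (S : Set α)
    (hS : ∀ a ∈ S, MulAction.orbit K a ⊆ S ∧ (MulAction.orbit K a).ncard = k) : k ∣ S.ncard := by
  induction hn : S.ncard using Nat.strong_induction_on generalizing S with
  | _ n ih =>
    rcases S.eq_empty_or_nonempty with rfl | ⟨a, ha⟩
    · simp [← hn]
    · obtain ⟨hsub, hk⟩ := hS a ha
      have h1 := Set.ncard_sdiff_add_ncard_of_subset hsub (Set.toFinite S)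
      have h2 : 0 < (MulAction.orbit K a).ncard := (Set.ncard_pos (Set.toFinite _)).2 (MulAction.nonempty_orbit a)
      rw [← hn, ← h1, hk]
      refine Nat.dvd_add ?_ (dvd_refl k)
      refine ih (S \ MulAction.orbit K a).ncard (by omega) (S \ MulAction.orbit K a) (fun b hb => ⟨fun c hc => ⟨(hS b hb.1).1 hc, fun hca => hb.2 ?_⟩,
        (hS b hb.1).2⟩) rfl
      rw [← MulAction.orbit_eq_iff] at hca hc ⊢
      exact hc.symm.trans hca

end Cfsg.Agent.TwentyTwo
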