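import Cfsg.Agent.Lib.FiniteGroup.SylowTwicePrime
import Cfsg.Agent.Lib.FiniteGroup.TwentyTwo.Action
import Mathlib.Combinatorics.Enumerative.DoubleCounting

/-!
A group acting faithfully and evenly on exactly `22` Sylow `3`-subgroups: these have order `3`,
or order `9` with four fixed points for every nontrivial element.
-/

set_option autoImplicit false

open scoped Pointwise

namespace Cfsg.Agent.TwentyTwo

open Cfsg.Agent.SylowCount

variable {G : Type*} [Group G] [Finite G]

/-- The standing hypotheses. -/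
structure Setup (G : Type*) [Group G] : Prop where
  card_sylow : Nat.card (Sylow 3 G) = 22
  faithful : FaithfulSMul G (Sylow 3 G)
  even : ∀ g : G, orderOf g = 2 → (MulAction.fixedBy (Sylow 3 G) g).ncard % 4 = 2

/-- The Sylow subgroups containing `D`. -/
def fixSet (D : Subgroup G) : Set (Sylow 3 G) := {R | D ≤ (R : Subgroup G)}

/-- The Sylow subgroups meeting `P` with index `3`. -/
def nearSet (P : Sylow 3 G) : Set (Sylow 3 G) := {R | (R : Subgroup G).relIndex P = 3}

theorem eq_one_of_forall_fixed (hs : Setup G) {g : G} (h : ∀ R : Sylow 3 G, g • R = R) : g = 1 := by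
  haveI := hs.faithful
  exact eq_of_smul_eq_smul (α := Sylow 3 G) fun R => by rw [h R, one_smul]

theorem ncard_univ_eq (hs : Setup G) : (Set.univ : Set (Sylow 3 G)).ncard = 22 := by
  rw [Set.ncard_univ, hs.card_sylow]

theorem card_sylow_eq (P Q : Sylow 3 G) : Nat.card (P : Subgroup G) = Nat.card (Q : Subgroup G) :=
  Nat.card_congr (P.equiv Q).toEquiv

theorem relIndex_smul (g : G) (R P : Sylow 3 G) :
    ((g • R : Sylow 3 G) : Subgroup G).relIndex (g • P : Sylow 3 G) = (R : Subgroup G).relIndex P := by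
  rw [Sylow.coe_subgroup_smul, Sylow.coe_subgroup_smul, Subgroup.relIndex_pointwise_smul]

theorem smul_mem_nearSet {g : G} {P R : Sylow 3 G} : g • R ∈ nearSet (g • P) ↔ R ∈ nearSet P := by
  show _ = 3 ↔ _ = 3
  rw [relIndex_smul]

theorem self_fixed (P : Sylow 3 G) {x : G} (hx : x ∈ (P : Subgroup G)) : x • P = P :=
  (smul_eq_iff_mem P P hx).2 hx

theorem exists_move {P R : Sylow 3 G} (h : R ≠ P) : ∃ x ∈ (P : Subgroup G), x • R ≠ R := by
  by_contra hcon
  push Not at hcon
  exact h (sylow_eq_of_le (fun x hx => (smul_eq_iff_mem P R hx).1 (hcon x hx))).symm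

theorem relIndex_cases (hs : Setup G) {P R : Sylow 3 G} (h : R ≠ P) :
    (R : Subgroup G).relIndex P = 3 ∨ (R : Subgroup G).relIndex P = 9 := by
  have hlt : (R : Subgroup G).relIndex P < 22 := by
    rw [← hs.card_sylow, ← ncard_orbit, ← Set.ncard_univ]
    refine Set.ncard_lt_ncard ?_ Set.finite_univ
    refine Set.ssubset_univ_iff.2 fun he => notMem_orbit_self h ?_
    rw [he]; trivial
  have h1 := one_lt_relIndex h
  obtain ⟨k, hk⟩ := P.isPGroup'.index ((R : Subgroup G).subgroupOf P)
  change (R : Subgroup G).relIndex P = 3 ^ k at hk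
  rw [hk] at hlt h1 ⊢
  rcases k with _ | _ | _ | k
  · simp at h1
  · simp
  · simp
  · have : 3 ^ 3 ≤ 3 ^ (k + 3) := Nat.pow_le_pow_right (by norm_num) (by omega)
    omega

/-- A transitive invariant equivalence relation is trivial or everything. -/
theorem block (hs : Setup G) (r : Sylow 3 G → Sylow 3 G → Prop) (hr : Equivalence r)
    (hinv : ∀ (g : G) a b, r a b → r (g • a) (g • b)) {P T : Sylow 3 G} (hPT : r P T) (hne : T ≠ P)
    (R : Sylow 3 G) : r P R := by
  classical
  haveI : Fintype (Sylow 3 G) := Fintype.ofFinite _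
  have hclass : ∀ A : Sylow 3 G, {B | r A B}.ncard = {B | r P B}.ncard := by
    intro A
    obtain ⟨g, rfl⟩ := MulAction.exists_smul_eq G P A
    have e : {B | r (g • P) B} = (fun B => g • B) '' {B | r P B} := by
      ext B
      constructor
      · intro hB
        exact ⟨g⁻¹ • B, by simpa using hinv g⁻¹ _ _ hB, smul_inv_smul g B⟩
      · rintro ⟨C, hC, rfl⟩
        exact hinv g _ _ hC
    rw [e, Set.ncard_image_of_injective _ (MulAction.injective g)]
  -- the class size divides 22
  have hdvd : {B | r P B}.ncard ∣ 22 := by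
    let s : Setoid (Sylow 3 G) := ⟨r, hr⟩
    haveI : Fintype (Quotient s) := Fintype.ofFinite _
    have h1 := Finset.card_eq_sum_card_fiberwise (s := (Finset.univ : Finset (Sylow 3 G)))
      (t := (Finset.univ : Finset (Quotient s))) (f := Quotient.mk s) (fun _ _ => Finset.mem_univ _)
    have h2 : ∀ q : Quotient s, (Finset.univ.filter fun a => Quotient.mk s a = q).card =
        {B | r P B}.ncard := by
      intro q
      induction q using Quotient.inductionOn with
      | _ A =>
        rw [← hclass A, ← Set.ncard_coe_finset]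
        congr 1
        ext B
        simp only [Finset.coe_filter, Finset.mem_univ, true_and]
        exact ⟨fun h => hr.symm (Quotient.exact h), fun h => Quotient.sound (hr.symm h)⟩
    rw [Finset.sum_congr rfl (fun q _ => h2 q), Finset.sum_const, smul_eq_mul, Finset.card_univ,
      ← Nat.card_eq_fintype_card, hs.card_sylow] at h1
    exact ⟨_, by rw [mul_comm]; exact h1⟩
  have hinvP : ∀ x ∈ (P : Subgroup G), ∀ B ∈ {B | r P B} \ {P}, x • B ∈ {B | r P B} \ {P} := by
    rintro x hx B ⟨hB, hBP⟩
    refine ⟨?_, fun h => hBP ?_⟩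
    · have := hinv x _ _ hB
      rwa [self_fixed P hx] at this
    · exact smul_left_cancel x ((Set.mem_singleton_iff.1 h).trans (self_fixed P hx).symm)
  have hmod : 3 ∣ ({B | r P B} \ {P}).ncard :=
    dvd_ncard P.isPGroup' _ hinvP fun B hB => exists_move hB.2
  rw [Set.ncard_sdiff (Set.singleton_subset_iff.2 (show P ∈ {B | r P B} from hr.refl P)) (Set.toFinite _), Set.ncard_singleton] at hmod
  have h2 : 1 < {B | r P B}.ncard := by
    refine (Set.one_lt_ncard (Set.toFinite _)).2 ⟨P, hr.refl P, T, hPT, Ne.symm hne⟩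
  have hle := Nat.le_of_dvd (by norm_num) hdvd
  have h22 : {B | r P B}.ncard = 22 := by
    generalize {B | r P B}.ncard = c at hdvd hmod h2 hle ⊢
    interval_cases c <;> omega
  have := Set.eq_of_subset_of_ncard_le (Set.subset_univ {B | r P B})
    (by rw [h22, ncard_univ_eq hs]) (Set.toFinite _)
  exact (Set.eq_univ_iff_forall.1 this) R

theorem inf_eq_of_le (hs : Setup G) {P R : Sylow 3 G} {D : Subgroup G} (hDP : D ≤ (P : Subgroup G))
    (hDR : D ≤ (R : Subgroup G)) (hne : R ≠ P) (hc : Nat.card D * 3 = Nat.card (P : Subgroup G)) :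
    (R : Subgroup G) ⊓ P = D ∧ R ∈ nearSet P := by
  have h1 := Subgroup.relIndex_mul_relIndex (⊥ : Subgroup G) ((R : Subgroup G) ⊓ P) (P : Subgroup G)
    bot_le inf_le_right
  rw [Subgroup.relIndex_bot_left, Subgroup.relIndex_bot_left, Subgroup.inf_relIndex_right] at h1
  have h2 : Nat.card D ≤ Nat.card ((R : Subgroup G) ⊓ P : Subgroup G) :=
    Subgroup.card_le_of_le (le_inf hDR hDP)
  have hpos : 0 < Nat.card D := Nat.card_pos
  rcases relIndex_cases hs hne with h | h <;> rw [h] at h1
  · exact ⟨(Subgroup.eq_of_le_of_card_ge (le_inf hDR hDP) (by omega)).symm, h⟩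
  · omega

theorem card_inf_of_mem_nearSet {P R : Sylow 3 G} (h : R ∈ nearSet P) :
    Nat.card ((R : Subgroup G) ⊓ P : Subgroup G) * 3 = Nat.card (P : Subgroup G) := by
  have h1 := Subgroup.relIndex_mul_relIndex (⊥ : Subgroup G) ((R : Subgroup G) ⊓ P) (P : Subgroup G)
    bot_le inf_le_right
  rw [Subgroup.relIndex_bot_left, Subgroup.relIndex_bot_left, Subgroup.inf_relIndex_right,
    show (R : Subgroup G).relIndex P = 3 from h] at h1
  exact h1

theorem smul_le_smul_sylow {g : G} {D : Subgroup G} {R : Sylow 3 G} :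
    MulAut.conj g • D ≤ ((g • R : Sylow 3 G) : Subgroup G) ↔ D ≤ (R : Subgroup G) := by
  rw [Sylow.coe_subgroup_smul, Subgroup.pointwise_smul_le_pointwise_smul_iff]

theorem fixSet_smul (g : G) (D : Subgroup G) :
    fixSet (MulAut.conj g • D) = (fun R => g • R) '' fixSet D := by
  ext R
  constructor
  · intro hR
    refine ⟨g⁻¹ • R, ?_, smul_inv_smul g R⟩
    apply (smul_le_smul_sylow (g := g)).1
    rw [smul_inv_smul]
    exact hR
  · rintro ⟨S, hS, rfl⟩
    exact smul_le_smul_sylow.2 hS

theorem conj_smul_eq_of_mem {P : Sylow 3 G} {D : Subgroup G} (hDP : D ≤ (P : Subgroup G))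
    (hc : Nat.card D * 3 = Nat.card (P : Subgroup G)) {x : G} (hx : x ∈ (P : Subgroup G)) :
    MulAut.conj x • D = D := by
  have hidx : (D.subgroupOf (P : Subgroup G)).index = 3 := by
    have h1 := (D.subgroupOf (P : Subgroup G)).card_mul_index
    rw [Nat.card_congr (Subgroup.subgroupOfEquivOfLe hDP).toEquiv, ← hc] at h1
    exact Nat.eq_of_mul_eq_mul_left Nat.card_pos h1
  have hnorm : (D.subgroupOf (P : Subgroup G)).Normal := by
    refine Subgroup.normal_of_index_eq_minFac_card ?_
    obtain ⟨k, hk⟩ := IsPGroup.iff_card.1 P.isPGroup'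
    rcases Nat.eq_zero_or_pos k with rfl | hpos
    · rw [hk] at hc; omega
    · rw [hidx, hk, Nat.pow_minFac hpos.ne', Nat.prime_three.minFac_eq]
  refine Subgroup.eq_of_le_of_card_ge ?_ (Nat.card_congr (Subgroup.equivSMul _ D).toEquiv).le
  intro y hy
  rw [Subgroup.mem_pointwise_smul_iff_inv_smul_mem] at hy
  have hy' : x⁻¹ * y * x ∈ D := by simpa [MulAut.smul_def] using hy
  have := hnorm.conj_mem ⟨x⁻¹ * y * x, hDP hy'⟩ hy' ⟨x, hx⟩
  rw [Subgroup.mem_subgroupOf] at this
  simpa [mul_assoc] using this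

theorem fixSet_mod (hs : Setup G) {P : Sylow 3 G} {D : Subgroup G} (hDP : D ≤ (P : Subgroup G))
    (hc : Nat.card D * 3 = Nat.card (P : Subgroup G)) : 3 ∣ (fixSet D \ {P}).ncard := by
  refine dvd_ncard P.isPGroup' _ ?_ fun R hR => exists_move hR.2
  rintro x hx R ⟨hR, hRP⟩
  refine ⟨?_, fun h => hRP ?_⟩
  · show D ≤ ((x • R : Sylow 3 G) : Subgroup G)
    rw [← conj_smul_eq_of_mem hDP hc hx]
    exact smul_le_smul_sylow.2 hR
  · exact smul_left_cancel x ((Set.mem_singleton_iff.1 h).trans (self_fixed P hx).symm)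

set_option maxHeartbeats 1000000 in
/-- Either some Sylow subgroup of order `3`, or the intersections of index `3` have four fixed points. -/
theorem near_profile (hs : Setup G) :
    (∀ P : Sylow 3 G, Nat.card (P : Subgroup G) = 3) ∨
      ∀ P : Sylow 3 G, (nearSet P).ncard = 12 ∧
        ∀ R ∈ nearSet P, (fixSet ((R : Subgroup G) ⊓ P)).ncard = 4 := by
  classical
  haveI : Fintype (Sylow 3 G) := Fintype.ofFinite _
  haveI : Fintype (Subgroup G) := Fintype.ofFinite _
  obtain ⟨P₀⟩ : Nonempty (Sylow 3 G) := inferInstance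
  set c := Nat.card (P₀ : Subgroup G)
  have hcP : ∀ P : Sylow 3 G, Nat.card (P : Subgroup G) = c := fun P => card_sylow_eq P P₀
  by_cases h3 : c = 3
  · exact Or.inl fun P => (hcP P).trans h3
  refine Or.inr ?_
  let fam : ℕ → Sylow 3 G → Finset (Subgroup G) := fun m P =>
    Finset.univ.filter fun D => Nat.card D * 3 = c ∧ (fixSet D).ncard = m ∧ D ≤ (P : Subgroup G)
  have hconst : ∀ m (P : Sylow 3 G), (fam m P).card = (fam m P₀).card := by
    intro m P
    obtain ⟨g, rfl⟩ := MulAction.exists_smul_eq G P₀ P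
    refine (Finset.card_bij (fun D _ => MulAut.conj g • D) ?_ (fun _ _ _ _ h => smul_left_cancel _ h) ?_).symm
    · intro D hD
      simp only [fam, Finset.mem_filter, Finset.mem_univ, true_and] at hD ⊢
      refine ⟨?_, ?_, smul_le_smul_sylow.2 hD.2.2⟩
      · rw [← Nat.card_congr (Subgroup.equivSMul _ D).toEquiv]; exact hD.1
      · rw [fixSet_smul, Set.ncard_image_of_injective _ (MulAction.injective g)]; exact hD.2.1
    · intro D hD
      refine ⟨(MulAut.conj g)⁻¹ • D, ?_, smul_inv_smul _ _⟩
      simp only [fam, Finset.mem_filter, Finset.mem_univ, true_and] at hD ⊢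
      refine ⟨?_, ?_, ?_⟩
      · rw [← Nat.card_congr (Subgroup.equivSMul _ D).toEquiv]; exact hD.1
      · rw [← hD.2.1]
        conv_rhs => rw [← smul_inv_smul (MulAut.conj g) D, fixSet_smul]
        rw [Set.ncard_image_of_injective _ (MulAction.injective g)]
      · apply (smul_le_smul_sylow (g := g)).1
        rw [smul_inv_smul]
        exact hD.2.2
  have hdouble : ∀ m, m ∣ 22 * (fam m P₀).card := by
    intro m
    let 𝒟 : Finset (Subgroup G) := Finset.univ.filter fun D => Nat.card D * 3 = c ∧ (fixSet D).ncard = m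
    have h := Finset.sum_card_bipartiteAbove_eq_sum_card_bipartiteBelow
      (s := 𝒟) (t := (Finset.univ : Finset (Sylow 3 G)))
      (fun (D : Subgroup G) (R : Sylow 3 G) => D ≤ (R : Subgroup G))
    simp only [Finset.bipartiteAbove, Finset.bipartiteBelow] at h
    have h1 : ∀ D ∈ 𝒟, (Finset.univ.filter fun R : Sylow 3 G => D ≤ (R : Subgroup G)).card = m := by
      intro D hD
      simp only [𝒟, Finset.mem_filter, Finset.mem_univ, true_and] at hD
      rw [← Set.ncard_coe_finset, ← hD.2]
      congr 1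
      ext R
      simp [fixSet]
    have h2 : ∀ R : Sylow 3 G, (𝒟.filter fun D => D ≤ (R : Subgroup G)).card = (fam m P₀).card := by
      intro R
      rw [← hconst m R, Finset.filter_filter]
      simp only [fam, and_assoc]
    rw [Finset.sum_congr rfl h1, Finset.sum_congr rfl (fun R _ => h2 R), Finset.sum_const, Finset.sum_const,
      Finset.card_univ, ← Nat.card_eq_fintype_card, hs.card_sylow, smul_eq_mul, smul_eq_mul] at h
    exact ⟨𝒟.card, by rw [mul_comm m]; exact h.symm⟩
  intro P
  have hnearP : (nearSet P).ncard ≤ 21 := by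
    have : nearSet P ⊆ Set.univ \ {P} := fun R hR => ⟨trivial, fun e => by
      have h : (R : Subgroup G).relIndex P = 3 := hR
      rw [Set.mem_singleton_iff.1 e, Subgroup.relIndex_self] at h
      omega⟩
    refine (Set.ncard_le_ncard this).trans ?_
    rw [Set.ncard_sdiff (Set.subset_univ _) (Set.toFinite _), ncard_univ_eq hs, Set.ncard_singleton]
  let near := (nearSet P).toFinset
  let S := near.image fun R : Sylow 3 G => (R : Subgroup G) ⊓ P
  have hmemS : ∀ D ∈ S, D ≤ (P : Subgroup G) ∧ Nat.card D * 3 = c ∧ ∃ R, R ≠ P ∧ D ≤ (R : Subgroup G) := by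
    intro D hD
    obtain ⟨R, hR, rfl⟩ := Finset.mem_image.1 hD
    have hR' : R ∈ nearSet P := Set.mem_toFinset.1 hR
    refine ⟨inf_le_right, (card_inf_of_mem_nearSet hR').trans (hcP P), R, fun e => ?_, inf_le_left⟩
    have h : (R : Subgroup G).relIndex P = 3 := hR'
    rw [e, Subgroup.relIndex_self] at h
    omega
  have hfib : ∀ D ∈ S, (near.filter fun R : Sylow 3 G => (R : Subgroup G) ⊓ P = D).card =
      (fixSet D \ {P}).ncard := by
    intro D hD
    obtain ⟨hDP, hDc, -⟩ := hmemS D hD
    rw [← Set.ncard_coe_finset]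
    congr 1
    ext R
    simp only [near, Finset.coe_filter, Set.mem_toFinset, Set.mem_sdiff, Set.mem_singleton_iff]
    constructor
    · rintro ⟨hR, rfl⟩
      refine ⟨(inf_le_left : (R : Subgroup G) ⊓ P ≤ R), fun e => ?_⟩
      have h : (R : Subgroup G).relIndex P = 3 := hR
      rw [e, Subgroup.relIndex_self] at h
      omega
    · rintro ⟨hR, hne⟩
      exact ((inf_eq_of_le hs hDP hR hne (hDc.trans (hcP P).symm))).symm
  have htotal : (nearSet P).ncard = ∑ D ∈ S, (fixSet D \ {P}).ncard := by
    rw [Set.ncard_eq_toFinset_card', Finset.card_eq_sum_card_image (fun R : Sylow 3 G => (R : Subgroup G) ⊓ P)]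
    exact Finset.sum_congr rfl hfib
  have hfour : ∀ D ∈ S, (fixSet D).ncard = 4 := by
    intro D hD
    obtain ⟨hDP, hDc, R, hRP, hDR⟩ := hmemS D hD
    set m := (fixSet D).ncard with hm
    have hP : P ∈ fixSet D := hDP
    have hm1 : (fixSet D \ {P}).ncard = m - 1 := by
      rw [Set.ncard_sdiff (Set.singleton_subset_iff.2 hP) (Set.toFinite _), Set.ncard_singleton]
    have hm2 : 2 ≤ m := (Set.one_lt_ncard (Set.toFinite _)).2 ⟨P, hP, R, hDR, Ne.symm hRP⟩
    have hmod := fixSet_mod hs hDP (hDc.trans (hcP P).symm)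
    rw [hm1] at hmod
    have hm22 : m ≠ 22 := by
      intro h22
      have hu := Set.eq_of_subset_of_ncard_le (Set.subset_univ (fixSet D))
        (by rw [ncard_univ_eq hs, ← h22]) (Set.toFinite _)
      have hbot : D = ⊥ := by
        rw [Subgroup.eq_bot_iff_forall]
        exact fun x hx => eq_one_of_forall_fixed hs fun T =>
          (smul_eq_iff_mem P T (hDP hx)).2 ((Set.eq_univ_iff_forall.1 hu T) hx)
      rw [hbot, Subgroup.card_bot] at hDc
      exact h3 hDc.symm
    have hmle : m ≤ 22 := by rw [← ncard_univ_eq hs]; exact Set.ncard_le_ncard (Set.subset_univ _)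
    have hb : (fam m P).card * (m - 1) ≤ 21 := by
      refine le_trans ?_ hnearP
      rw [htotal, ← smul_eq_mul, ← Finset.sum_const]
      have hsub : fam m P ⊆ S := by
        intro E hE
        simp only [fam, Finset.mem_filter, Finset.mem_univ, true_and] at hE
        obtain ⟨hEc, hEm, hEP⟩ := hE
        obtain ⟨T, hT, hTP⟩ : ∃ T ∈ fixSet E, T ≠ P := by
          by_contra hcon
          push Not at hcon
          have : (fixSet E).ncard ≤ 1 :=
            (Set.ncard_le_one (Set.toFinite _)).2 fun a ha b hb => (hcon a ha).trans (hcon b hb).symm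
          omega
        obtain ⟨he, hnear⟩ := inf_eq_of_le hs hEP hT hTP (hEc.trans (hcP P).symm)
        exact Finset.mem_image.2 ⟨T, Set.mem_toFinset.2 hnear, he⟩
      refine le_trans (le_of_eq (Finset.sum_congr rfl fun E hE => ?_))
        (Finset.sum_le_sum_of_subset hsub)
      simp only [fam, Finset.mem_filter, Finset.mem_univ, true_and] at hE
      rw [Set.ncard_sdiff (Set.singleton_subset_iff.2 (show P ∈ fixSet E from hE.2.2)) (Set.toFinite _),
        Set.ncard_singleton, hE.2.1]
    have hpos : 0 < (fam m P).card := Finset.card_pos.2 ⟨D, by simp [fam, hDc, hDP, ← hm]⟩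
    have hdd := hdouble m
    rw [← hconst m P] at hdd
    generalize (fam m P).card = k at hdd hb hpos
    have hk : k ≤ 21 := le_trans (Nat.le_mul_of_pos_right k (by omega)) hb
    by_contra hne
    interval_cases m <;> first | omega | (interval_cases k <;> omega)
  have h3S : (nearSet P).ncard = S.card * 3 := by
    rw [htotal, ← smul_eq_mul, ← Finset.sum_const]
    refine Finset.sum_congr rfl fun D hD => ?_
    rw [Set.ncard_sdiff (Set.singleton_subset_iff.2 (show P ∈ fixSet D from (hmemS D hD).1)) (Set.toFinite _),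
      Set.ncard_singleton, hfour D hD]
  have heq : S = fam 4 P := by
    apply Finset.Subset.antisymm
    · intro D hD
      simp [fam, hfour D hD, (hmemS D hD).1, (hmemS D hD).2.1]
    · intro E hE
      simp only [fam, Finset.mem_filter, Finset.mem_univ, true_and] at hE
      obtain ⟨hEc, hEm, hEP⟩ := hE
      obtain ⟨T, hT, hTP⟩ : ∃ T ∈ fixSet E, T ≠ P := by
        by_contra hcon
        push Not at hcon
        have : (fixSet E).ncard ≤ 1 :=
          (Set.ncard_le_one (Set.toFinite _)).2 fun a ha b hb => (hcon a ha).trans (hcon b hb).symm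
        omega
      obtain ⟨he, hnear⟩ := inf_eq_of_le hs hEP hT hTP (hEc.trans (hcP P).symm)
      exact Finset.mem_image.2 ⟨T, Set.mem_toFinset.2 hnear, he⟩
  have hfar : 9 ∣ (Set.univ \ insert P (nearSet P)).ncard := by
    refine dvd_ncard_of_orbit (P : Subgroup G) 9 _ ?_
    rintro R ⟨-, hR⟩
    rw [Set.mem_insert_iff, not_or] at hR
    refine ⟨?_, ?_⟩
    · rintro _ ⟨x, rfl⟩
      refine ⟨trivial, ?_⟩
      show ¬ (x : G) • R ∈ insert P (nearSet P)
      rw [Set.mem_insert_iff, not_or]
      refine ⟨fun h => hR.1 (smul_left_cancel (x : G) (h.trans (self_fixed P x.2).symm)), fun h => hR.2 ?_⟩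
      apply (smul_mem_nearSet (g := (x : G))).1
      rw [self_fixed P x.2]
      exact h
    · rw [ncard_orbit]
      exact (relIndex_cases hs hR.1).resolve_left hR.2
  have hins : (insert P (nearSet P)).ncard = (nearSet P).ncard + 1 :=
    Set.ncard_insert_of_notMem (fun h => by
      have h' : (P : Subgroup G).relIndex P = 3 := h
      rw [Subgroup.relIndex_self] at h'
      omega) (Set.toFinite _)
  rw [Set.ncard_sdiff (Set.subset_univ _) (Set.toFinite _), ncard_univ_eq hs, hins, h3S] at hfar
  have hdd := hdouble 4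
  rw [← hconst 4 P, ← heq] at hdd
  refine ⟨?_, fun R hR => hfour _ (Finset.mem_image_of_mem _ (Set.mem_toFinset.2 hR))⟩
  rw [h3S] at hnearP ⊢
  omega

end Cfsg.Agent.TwentyTwo
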