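import Cfsg.Agent.Lib.FiniteGroup.TwentyTwo.Basic
import Mathlib.GroupTheory.SpecificGroups.Cyclic
import Mathlib.Tactic.NormNum.Prime

/-!
The Sylow `11`-subgroups: they are self-centralizing with dihedral normalizers, so the number of
fixers of a point is `1` modulo `11`.
-/

set_option autoImplicit false

namespace Cfsg.Agent.TwentyTwo

open Cfsg.Agent.SylowCount

variable {G : Type*} [Group G] [Finite G]

theorem card_eq_mul_normalizer (hs : Setup G) (P : Sylow 3 G) :
    Nat.card G = 22 * Nat.card (Subgroup.normalizer ((P : Subgroup G) : Set G)) := by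
  rw [← (Subgroup.normalizer ((P : Subgroup G) : Set G)).card_mul_index, mul_comm]
  congr 1
  rw [← hs.card_sylow]
  exact P.card_eq_index_normalizer.symm

/-- A centralizing element keeping each orbit lies in the Sylow subgroup. -/
theorem mem_of_centralizing (hs : Setup G) (P : Sylow 3 G) {c : G}
    (hc : ∀ x ∈ (P : Subgroup G), x * c = c * x)
    (horb : ∀ n : ℕ, ∀ R : Sylow 3 G, R ≠ P → c ^ n • R ∈ MulAction.orbit (P : Subgroup G) R) :
    c ∈ (P : Subgroup G) := by
  obtain ⟨a, m, hm, hord⟩ := Nat.exists_eq_pow_mul_and_not_dvd (orderOf_pos c).ne' 3 (by norm_num)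
  have hcd : ∀ x ∈ (P : Subgroup G), x * c ^ 3 ^ a = c ^ 3 ^ a * x := fun x hx =>
    ((show Commute x c from hc x hx).pow_right _).eq
  have hordd : orderOf (c ^ 3 ^ a) = m := by
    rw [orderOf_pow_of_dvd (pow_ne_zero _ (by norm_num)) (Dvd.intro m hord.symm), hord,
      Nat.mul_div_cancel_left _ (pow_pos (by norm_num) _)]
  have hfix : ∀ R : Sylow 3 G, c ^ 3 ^ a • R = R := by
    intro R
    by_cases hR : R = P
    · rw [hR, Sylow.smul_eq_iff_mem_normalizer]
      refine Subgroup.centralizer_le_normalizer _ ?_
      rw [Subgroup.mem_centralizer_iff]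
      exact hcd
    · exact smul_eq_of_mem_orbit P.isPGroup' hcd (by rw [hordd]; exact hm)
        (horb _ R hR)
  have hone : c ^ 3 ^ a = 1 := eq_one_of_forall_fixed hs hfix
  have hp : IsPGroup 3 (Subgroup.zpowers c) := by
    rintro ⟨y, hy⟩
    obtain ⟨i, rfl⟩ := Subgroup.mem_zpowers_iff.1 hy
    exact ⟨a, Subtype.ext (by
      show (c ^ i) ^ 3 ^ a = 1
      rw [← zpow_natCast, ← zpow_mul, mul_comm, zpow_mul, zpow_natCast, hone, one_zpow])⟩
  refine le_of_le_normalizer hp P ?_ (Subgroup.mem_zpowers c)
  rw [Subgroup.zpowers_le]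
  refine Subgroup.centralizer_le_normalizer _ ?_
  rw [Subgroup.mem_centralizer_iff]
  exact hc

/-- The Sylow `11`-subgroups. -/
theorem eleven (hs : Setup G)
    (h11 : ∀ P : Sylow 3 G, ¬ 11 ∣ Nat.card (Subgroup.normalizer ((P : Subgroup G) : Set G)))
    (h5 : ∀ g : G, orderOf g = 5 → ∀ R : Sylow 3 G, g • R = R →
      2 < (MulAction.fixedBy (Sylow 3 G) g).ncard) (P : Sylow 3 G) :
    Nat.card (Subgroup.normalizer ((P : Subgroup G) : Set G)) % 11 = 1 ∧
      ∀ Q : Sylow 11 G, Nat.card (Q : Subgroup G) = 11 ∧
        Subgroup.centralizer ((Q : Subgroup G) : Set G) = (Q : Subgroup G) ∧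
        Nat.card (Subgroup.normalizer ((Q : Subgroup G) : Set G)) = 22 := by
  classical
  haveI : Fact (Nat.Prime 11) := ⟨by norm_num⟩
  haveI : Fact (Nat.Prime 5) := ⟨by norm_num⟩
  have hG := card_eq_mul_normalizer hs P
  set n := Nat.card (Subgroup.normalizer ((P : Subgroup G) : Set G)) with hn
  have hn0 : n ≠ 0 := Nat.card_pos.ne'
  have hQ11 : ∀ Q : Sylow 11 G, Nat.card (Q : Subgroup G) = 11 := by
    intro Q
    rw [Q.card_eq_multiplicity, hG, show 22 * n = 11 * (2 * n) by ring,
      Nat.factorization_mul (by norm_num) (by omega), Finsupp.add_apply,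
      Nat.Prime.factorization_self (by norm_num),
      Nat.factorization_eq_zero_of_not_dvd (fun h => h11 P ((Nat.Coprime.dvd_of_dvd_mul_left (by norm_num) h)))]
    norm_num
  have hnormQ : ∀ Q : Sylow 11 G, Subgroup.centralizer ((Q : Subgroup G) : Set G) = (Q : Subgroup G) ∧
      Nat.card (Subgroup.normalizer ((Q : Subgroup G) : Set G)) = 22 := by
    intro Q
    have hq := hQ11 Q
    haveI hcyc := isCyclic_of_prime_card (α := (Q : Subgroup G)) hq
    have hgen : ∀ x ∈ (Q : Subgroup G), x ≠ 1 → Subgroup.zpowers x = (Q : Subgroup G) := by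
      intro x hx hx1
      refine Subgroup.eq_of_le_of_card_ge (Subgroup.zpowers_le.2 hx) ?_
      have hd : orderOf x ∣ 11 := hq ▸ Subgroup.orderOf_dvd_natCard _ hx
      rw [hq, Nat.card_zpowers, ((Nat.dvd_prime (by norm_num)).1 hd).resolve_left
        (fun e => hx1 (orderOf_eq_one_iff.1 e))]
    -- free action
    have hfree : ∀ x ∈ (Q : Subgroup G), x ≠ 1 → ∀ R : Sylow 3 G, x • R ≠ R := by
      intro x hx hx1 R hR
      apply h11 R
      rw [← hq, ← hgen x hx hx1]
      exact Subgroup.card_dvd_of_le (Subgroup.zpowers_le.2 (Sylow.smul_eq_iff_mem_normalizer.1 hR))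
    have horb : ∀ R : Sylow 3 G, (MulAction.orbit (Q : Subgroup G) R).ncard = 11 := by
      intro R
      rw [← MulAction.index_stabilizer]
      have e : MulAction.stabilizer (Q : Subgroup G) R = ⊥ := by
        rw [Subgroup.eq_bot_iff_forall]
        intro x hx
        by_contra hne
        exact hfree x x.2 (fun e => hne (Subtype.ext e)) R hx
      rw [e, Subgroup.index_bot, hq]
    -- a normalizing element outside the centralizer fixes at most two points
    have htwo : ∀ g ∈ Subgroup.normalizer ((Q : Subgroup G) : Set G),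
        g ∉ Subgroup.centralizer ((Q : Subgroup G) : Set G) →
        (MulAction.fixedBy (Sylow 3 G) g).ncard ≤ 2 := by
      intro g hg hgc
      have h := card_mul_ncard_le (Q : Subgroup G) (MulAction.fixedBy (Sylow 3 G) g) Set.univ
        (Set.subset_univ _) (fun _ _ _ _ => trivial) (fun x hx hx1 R hR hxR => hgc ?_)
      · rw [hq, ncard_univ_eq hs] at h
        omega
      have hy : g * x * g⁻¹ ∈ (Q : Subgroup G) := (Subgroup.mem_normalizer_iff.1 hg x).1 hx
      have h1 : (g * x * g⁻¹) • R = x • R := by
        have hR' : g⁻¹ • R = R := by rw [inv_smul_eq_iff]; exact hR.symm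
        rw [mul_smul, mul_smul, hR']
        exact hxR
      have h2 : x⁻¹ * (g * x * g⁻¹) = 1 := by
        by_contra hne
        refine hfree _ (mul_mem (inv_mem hx) hy) hne R ?_
        rw [mul_smul, h1, inv_smul_smul]
      have h3 : g * x = x * g := by
        rw [inv_mul_eq_one] at h2
        calc g * x = g * x * g⁻¹ * g := by group
          _ = x * g := by rw [← h2]
      rw [← hgen x hx hx1, Subgroup.mem_centralizer_iff]
      intro y hy'
      obtain ⟨i, rfl⟩ := Subgroup.mem_zpowers_iff.1 hy'
      exact ((show Commute x g from h3.symm).zpow_left i).eq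
    have hle : (Q : Subgroup G) ≤ Subgroup.centralizer ((Q : Subgroup G) : Set G) := by
      refine Subgroup.le_centralizer_iff_isMulCommutative.2 ⟨⟨fun a b => ?_⟩⟩
      exact (IsCyclic.commGroup (α := (Q : Subgroup G))).mul_comm a b
    -- self-centralizing
    have hC : Subgroup.centralizer ((Q : Subgroup G) : Set G) = (Q : Subgroup G) := by
      refine Q.3 ?_ hle
      rintro ⟨c, hc⟩
      obtain ⟨a, m, hm, hord⟩ := Nat.exists_eq_pow_mul_and_not_dvd (orderOf_pos c).ne' 11 (by norm_num)
      refine ⟨a, Subtype.ext ?_⟩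
      show c ^ 11 ^ a = 1
      set d := c ^ 11 ^ a with hd
      have hdc : ∀ x ∈ (Q : Subgroup G), x * d = d * x := fun x hx =>
        ((show Commute x c from Subgroup.mem_centralizer_iff.1 hc x hx).pow_right _).eq
      have hordd : orderOf d = m := by
        rw [hd, orderOf_pow_of_dvd (pow_ne_zero _ (by norm_num)) (Dvd.intro m hord.symm), hord,
          Nat.mul_div_cancel_left _ (pow_pos (by norm_num) _)]
      have hdc2 : ∀ x ∈ (Q : Subgroup G), x * (d * d) = d * d * x := fun x hx => by
        rw [← mul_assoc, hdc x hx, mul_assoc, hdc x hx, ← mul_assoc]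
      have hord2 : ¬ 11 ∣ orderOf (d * d) := fun h => hm (hordd ▸ h.trans (by
        rw [← pow_two]; exact orderOf_pow_dvd 2))
      have hsq : d * d = 1 := by
        refine eq_one_of_forall_fixed hs fun R => ?_
        have hdR : ∀ S : Sylow 3 G, d • S ∈ MulAction.orbit (Q : Subgroup G) S → d • S = S := fun S h =>
          smul_eq_of_mem_orbit Q.isPGroup' hdc (by rw [hordd]; exact hm) h
        have hcov : ∀ S T : Sylow 3 G, T ∉ MulAction.orbit (Q : Subgroup G) S →
            ∀ U, U ∈ MulAction.orbit (Q : Subgroup G) S ∨ U ∈ MulAction.orbit (Q : Subgroup G) T := by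
          intro S T hST U
          have hdis : Disjoint (MulAction.orbit (Q : Subgroup G) S) (MulAction.orbit (Q : Subgroup G) T) := by
            rw [Set.disjoint_left]
            intro Z hZS hZT
            rw [← MulAction.orbit_eq_iff] at hZS hZT
            exact hST (MulAction.orbit_eq_iff.1 (hZT.symm.trans hZS))
          have hu : MulAction.orbit (Q : Subgroup G) S ∪ MulAction.orbit (Q : Subgroup G) T = Set.univ := by
            refine Set.eq_of_subset_of_ncard_le (Set.subset_univ _) ?_ (Set.toFinite _)
            rw [Set.ncard_union_eq hdis (Set.toFinite _) (Set.toFinite _), horb, horb, ncard_univ_eq hs]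
          exact (Set.eq_univ_iff_forall.1 hu) U
        by_cases h1 : d • R ∈ MulAction.orbit (Q : Subgroup G) R
        · rw [mul_smul, hdR R h1, hdR R h1]
        · rcases hcov R (d • R) h1 ((d * d) • R) with h | h
          · exact smul_eq_of_mem_orbit Q.isPGroup' hdc2 hord2 h
          · rw [mul_smul] at h ⊢
            have h' := hdR (d • R) h
            rw [h']
            exact smul_left_cancel d h'
      by_contra hne
      have hord' : orderOf d = 2 := orderOf_eq_prime (by rw [pow_two]; exact hsq) hne
      have hev := hs.even d hord'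
      set F := MulAction.fixedBy (Sylow 3 G) d with hF
      have h11F : 11 ∣ F.ncard := by
        refine dvd_ncard Q.isPGroup' F ?_ ?_
        · intro x hx R hR
          show d • x • R = x • R
          rw [← mul_smul, ← hdc x hx, mul_smul, show d • R = R from hR]
        · intro R _
          obtain ⟨x, hx, hx1⟩ : ∃ x ∈ (Q : Subgroup G), x ≠ 1 := by
            by_contra hcon
            push Not at hcon
            rw [(Subgroup.eq_bot_iff_forall _).2 hcon, Subgroup.card_bot] at hq
            omega
          exact ⟨x, hx, hfree x hx hx1 R⟩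
      have hle22 : F.ncard ≤ 22 := by
        rw [← ncard_univ_eq hs]; exact Set.ncard_le_ncard (Set.subset_univ _)
      have h22 : F.ncard = 22 := by omega
      have hu := Set.eq_of_subset_of_ncard_le (Set.subset_univ F) (by rw [h22, ncard_univ_eq hs]) (Set.toFinite _)
      exact hne (eq_one_of_forall_fixed hs fun R => (Set.eq_univ_iff_forall.1 hu) R)
    refine ⟨hC, ?_⟩
    -- the normalizer
    set N := Subgroup.normalizer ((Q : Subgroup G) : Set G) with hN
    have hker : (Q : Subgroup G).normalizerMonoidHom.ker = (Q : Subgroup G).subgroupOf N := by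
      rw [Subgroup.normalizerMonoidHom_ker, hC]
    have hidx : (Q : Subgroup G).relIndex N ∣ 10 := by
      show ((Q : Subgroup G).subgroupOf N).index ∣ 10
      rw [← hker, Subgroup.index_ker]
      refine (Subgroup.card_subgroup_dvd_card _).trans ?_
      rw [IsCyclic.card_mulAut, hq, Nat.totient_prime (by norm_num)]
    have hcN : Nat.card N = 11 * (Q : Subgroup G).relIndex N := by
      rw [← ((Q : Subgroup G).subgroupOf N).card_mul_index,
        Nat.card_congr (Subgroup.subgroupOfEquivOfLe Subgroup.le_normalizer).toEquiv, hq]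
      rfl
    have hne1 : (Q : Subgroup G).relIndex N ≠ 1 := by
      intro h1
      refine not_dvd_card_sylow_of_central (p := 3) (q := 11) (by norm_num) Q ?_ (by rw [hs.card_sylow]; norm_num)
      show N ≤ Subgroup.centralizer ((Q : Subgroup G) : Set G)
      rw [hC]
      exact Subgroup.relIndex_eq_one.1 h1
    have hno5 : ¬ 5 ∣ (Q : Subgroup G).relIndex N := by
      intro h5d
      obtain ⟨g, hg⟩ := exists_prime_orderOf_dvd_card' (G := N) 5 (hcN ▸ Dvd.dvd.mul_left h5d _)
      have hg5 : orderOf (g : G) = 5 := by rw [Subgroup.orderOf_coe]; exact hg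
      have hgc : (g : G) ∉ Subgroup.centralizer ((Q : Subgroup G) : Set G) := by
        rw [hC]
        intro hmem
        have := Subgroup.orderOf_dvd_natCard _ hmem
        rw [hg5, hq] at this
        norm_num at this
      have hle := htwo g g.2 hgc
      have hmod := ncard_modEq (p := 5) (K := Subgroup.zpowers (g : G)) (α := Sylow 3 G)
        (by intro y; refine ⟨1, ?_⟩; rw [pow_one, ← hg5, ← Nat.card_zpowers]; exact pow_card_eq_one')
        Set.univ (fun _ _ _ _ => trivial)
      have e : {R ∈ (Set.univ : Set (Sylow 3 G)) | ∀ x ∈ Subgroup.zpowers (g : G), x • R = R} =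
          MulAction.fixedBy (Sylow 3 G) (g : G) := by
        ext R
        constructor
        · exact fun h => h.2 _ (Subgroup.mem_zpowers _)
        · intro h
          refine ⟨trivial, fun x hx => ?_⟩
          obtain ⟨i, rfl⟩ := Subgroup.mem_zpowers_iff.1 hx
          exact zpow_mem (show (g : G) ∈ MulAction.stabilizer G R from h) i
      rw [e, ncard_univ_eq hs] at hmod
      obtain ⟨R, hR⟩ : (MulAction.fixedBy (Sylow 3 G) (g : G)).Nonempty := by
        rw [← Set.ncard_pos (Set.toFinite _)]
        unfold Nat.ModEq at hmod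
        omega
      have := h5 g hg5 R hR
      omega
    have h2 : (Q : Subgroup G).relIndex N = 2 := by
      have := Nat.le_of_dvd (by norm_num) hidx
      generalize (Q : Subgroup G).relIndex N = k at hidx hne1 hno5 this
      interval_cases k <;> omega
    rw [hcN, h2]
  refine ⟨?_, fun Q => ⟨hQ11 Q, hnormQ Q⟩⟩
  obtain ⟨Q⟩ : Nonempty (Sylow 11 G) := inferInstance
  have h1 := card_sylow_modEq_one 11 G
  have hi := (Subgroup.normalizer ((Q : Subgroup G) : Set G)).card_mul_index
  rw [(hnormQ Q).2, hG] at hi
  have hidx : (Subgroup.normalizer ((Q : Subgroup G) : Set G)).index = n := by omega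
  rw [Q.card_eq_index_normalizer] at h1
  change (Subgroup.normalizer ((Q : Subgroup G) : Set G)).index % 11 = 1 % 11 at h1
  rw [hidx] at h1
  exact h1

end Cfsg.Agent.TwentyTwo
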