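import Cfsg.Agent.Lib.FiniteGroup.TwentyTwo.ThreeCase
import Mathlib.Data.Int.GCD

/-!
No finite group has exactly `22` Sylow `3`-subgroups.
-/

set_option autoImplicit false

namespace Cfsg.Agent.TwentyTwo

open Cfsg.Agent.SylowCount

variable {G : Type*} [Group G] [Finite G]

/-- Counting elements in a group of order `264`. -/
theorem no_order_264 (hs : Setup G) (h3 : ∀ P : Sylow 3 G, Nat.card (P : Subgroup G) = 3)
    (hG : Nat.card G = 264)
    (hQ : ∀ Q : Sylow 11 G, Nat.card (Q : Subgroup G) = 11 ∧
      Subgroup.centralizer ((Q : Subgroup G) : Set G) = (Q : Subgroup G) ∧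
      Nat.card (Subgroup.normalizer ((Q : Subgroup G) : Set G)) = 22) : False := by
  classical
  haveI : Fintype G := Fintype.ofFinite _
  haveI : Fintype (Sylow 3 G) := Fintype.ofFinite _
  haveI : Fact (Nat.Prime 11) := ⟨by norm_num⟩
  haveI : Fact (Nat.Prime 2) := ⟨Nat.prime_two⟩
  haveI : Fintype (Sylow 11 G) := Fintype.ofFinite _
  have hn11 : Fintype.card (Sylow 11 G) = 12 := by
    obtain ⟨Q⟩ : Nonempty (Sylow 11 G) := inferInstance
    rw [← Nat.card_eq_fintype_card, Q.card_eq_index_normalizer]
    have h := (Subgroup.normalizer ((Q : Subgroup G) : Set G)).card_mul_index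
    rw [(hQ Q).2.2, hG] at h
    change (Subgroup.normalizer ((Q : Subgroup G) : Set G)).index = 12
    omega
  have hn3 : Fintype.card (Sylow 3 G) = 22 := by rw [← Nat.card_eq_fintype_card, hs.card_sylow]
  let El : ℕ → Finset G := fun k => Finset.univ.filter fun g => orderOf g = k
  let set' : Subgroup G → Finset G := fun H => Finset.univ.filter fun g => g ∈ H ∧ g ≠ 1
  have hset : ∀ H : Subgroup G, (set' H).card + 1 = Nat.card H := by
    intro H
    have e : set' H = (Finset.univ.filter fun g => g ∈ H).erase 1 := by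
      ext g; simp [set', and_comm]
    rw [e, Finset.card_erase_add_one (by simp [one_mem]), Nat.card_eq_fintype_card, Fintype.card_subtype]
  -- elements of prime order
  have hprime : ∀ (p : ℕ) [Fact p.Prime] [Fintype (Sylow p G)],
      (∀ S : Sylow p G, Nat.card (S : Subgroup G) = p) →
      Fintype.card (Sylow p G) * (p - 1) ≤ (El p).card := by
    intro p hp _ hcard
    have hgen : ∀ (S : Sylow p G) (g : G), g ∈ set' (S : Subgroup G) →
        orderOf g = p ∧ Subgroup.zpowers g = (S : Subgroup G) := by
      intro S g hg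
      simp only [set', Finset.mem_filter, Finset.mem_univ, true_and] at hg
      have hd : orderOf g ∣ p := hcard S ▸ Subgroup.orderOf_dvd_natCard _ hg.1
      have ho := ((Nat.dvd_prime hp.out).1 hd).resolve_left fun e => hg.2 (orderOf_eq_one_iff.1 e)
      exact ⟨ho, Subgroup.eq_of_le_of_card_ge (Subgroup.zpowers_le.2 hg.1)
        (by rw [hcard S, Nat.card_zpowers, ho])⟩
    have hdisj : ((Finset.univ : Finset (Sylow p G)) : Set (Sylow p G)).PairwiseDisjoint
        (fun S => set' (S : Subgroup G)) := by
      intro S _ T _ hne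
      show Disjoint _ _
      rw [Finset.disjoint_left]
      intro g hgS hgT
      exact hne (Sylow.ext ((hgen S g hgS).2.symm.trans (hgen T g hgT).2))
    have hsub : (Finset.univ : Finset (Sylow p G)).biUnion (fun S => set' (S : Subgroup G)) ⊆ El p := by
      intro g hg
      obtain ⟨S, -, hgS⟩ := Finset.mem_biUnion.1 hg
      simp [El, (hgen S g hgS).1]
    refine le_trans (le_of_eq ?_) (Finset.card_le_card hsub)
    rw [Finset.card_biUnion hdisj, Finset.sum_congr rfl (fun (S : Sylow p G) _ => show (set' (S : Subgroup G)).card = p - 1 by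
      have := hset (S : Subgroup G); rw [hcard S] at this; omega), Finset.sum_const, smul_eq_mul, Finset.card_univ]
  have h11 := hprime 11 (fun Q => (hQ Q).1)
  have h33 := hprime 3 h3
  rw [hn11] at h11
  rw [hn3] at h33
  -- a centralizing involution for each Sylow three-subgroup
  have ht : ∀ P : Sylow 3 G, ∃ t : G, orderOf t = 2 ∧ ∀ y ∈ (P : Subgroup G), y * t = t * y := by
    intro P
    set N := Subgroup.normalizer ((P : Subgroup G) : Set G) with hN
    have hcN : Nat.card N = 12 := by
      have := card_eq_mul_normalizer hs P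
      rw [hG, ← hN] at this
      omega
    set C := Subgroup.centralizer ((P : Subgroup G) : Set G)
    have hC : (C.subgroupOf N).index ∣ 2 := by
      rw [← Subgroup.normalizerMonoidHom_ker, Subgroup.index_ker]
      refine (Subgroup.card_subgroup_dvd_card _).trans ?_
      haveI := isCyclic_of_prime_card (α := (P : Subgroup G)) (h3 P)
      rw [IsCyclic.card_mulAut, h3 P, Nat.totient_prime Nat.prime_three]
    have h2C : 2 ∣ Nat.card (C.subgroupOf N) := by
      have h := (C.subgroupOf N).card_mul_index
      rw [hcN] at h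
      have hle := Nat.le_of_dvd (by norm_num) hC
      generalize (C.subgroupOf N).index = k at h hC hle
      interval_cases k <;> omega
    obtain ⟨⟨⟨t, ht1⟩, ht2⟩, ht⟩ := exists_prime_orderOf_dvd_card' (G := C.subgroupOf N) 2 h2C
    refine ⟨t, ?_, fun y hy => Subgroup.mem_centralizer_iff.1 ht2 y hy⟩
    rw [← Subgroup.orderOf_coe, ← Subgroup.orderOf_coe] at ht
    exact ht
  choose t ht2 htc using ht
  have h6 : 44 ≤ (El 6).card := by
    have hfacts : ∀ (P : Sylow 3 G) (y : G), y ∈ set' (P : Subgroup G) →
        orderOf (y * t P) = 6 ∧ (y * t P) ^ 4 = y ∧ Subgroup.zpowers y = (P : Subgroup G) := by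
      intro P y hy
      simp only [set', Finset.mem_filter, Finset.mem_univ, true_and] at hy
      have hd : orderOf y ∣ 3 := h3 P ▸ Subgroup.orderOf_dvd_natCard _ hy.1
      have ho := ((Nat.dvd_prime Nat.prime_three).1 hd).resolve_left fun e => hy.2 (orderOf_eq_one_iff.1 e)
      have hc : Commute y (t P) := htc P y hy.1
      refine ⟨?_, ?_, Subgroup.eq_of_le_of_card_ge (Subgroup.zpowers_le.2 hy.1)
        (by rw [h3 P, Nat.card_zpowers, ho])⟩
      · rw [hc.orderOf_mul_eq_mul_orderOf_of_coprime (by rw [ho, ht2 P]; norm_num), ho, ht2 P]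
      · have hy3 := pow_orderOf_eq_one y
        have ht' := pow_orderOf_eq_one (t P)
        rw [ho] at hy3
        rw [ht2 P] at ht'
        have e4 : y ^ 4 = y := by
          calc y ^ 4 = y ^ 3 * y := pow_succ y 3
            _ = y := by rw [hy3, one_mul]
        have e5 : (t P) ^ 4 = 1 := by
          calc (t P) ^ 4 = ((t P) ^ 2) ^ 2 := by rw [← pow_mul]
            _ = 1 := by rw [ht', one_pow]
        rw [hc.mul_pow, e4, e5, mul_one]
    have hdisj : ((Finset.univ : Finset (Sylow 3 G)) : Set (Sylow 3 G)).PairwiseDisjoint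
        (fun P => (set' (P : Subgroup G)).image fun y => y * t P) := by
      intro P _ R _ hne
      show Disjoint _ _
      rw [Finset.disjoint_left]
      intro g hgP hgR
      obtain ⟨y, hy, rfl⟩ := Finset.mem_image.1 hgP
      obtain ⟨w, hw, he⟩ := Finset.mem_image.1 hgR
      have e := congrArg (fun g => g ^ 4) he
      simp only [(hfacts P y hy).2.1, (hfacts R w hw).2.1] at e
      apply hne
      apply Sylow.ext
      rw [← (hfacts P y hy).2.2, ← (hfacts R w hw).2.2, e]
    have hsub : (Finset.univ : Finset (Sylow 3 G)).biUnion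
        (fun P => (set' (P : Subgroup G)).image fun y => y * t P) ⊆ El 6 := by
      intro g hg
      obtain ⟨P, -, hgP⟩ := Finset.mem_biUnion.1 hg
      obtain ⟨y, hy, rfl⟩ := Finset.mem_image.1 hgP
      simp [El, (hfacts P y hy).1]
    refine le_trans (le_of_eq ?_) (Finset.card_le_card hsub)
    rw [Finset.card_biUnion hdisj, Finset.sum_congr rfl (fun (P : Sylow 3 G) _ => show ((set' (P : Subgroup G)).image fun y => y * t P).card = 2 by
      rw [Finset.card_image_of_injective _ (mul_left_injective (t P))]
      have := hset (P : Subgroup G); rw [h3 P] at this; omega), Finset.sum_const, smul_eq_mul, Finset.card_univ, hn3]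
  -- inverting involutions
  have hgenQ : ∀ (Q : Sylow 11 G) (g : G), g ∈ (Q : Subgroup G) → g ≠ 1 → orderOf g = 11 := by
    intro Q g hg hg1
    have hd : orderOf g ∣ 11 := (hQ Q).1 ▸ Subgroup.orderOf_dvd_natCard _ hg
    exact ((Nat.dvd_prime (by norm_num)).1 hd).resolve_left fun e => hg1 (orderOf_eq_one_iff.1 e)
  have hinv : ∀ (Q : Sylow 11 G) (z : G), z ∈ Subgroup.normalizer ((Q : Subgroup G) : Set G) →
      z ∉ (Q : Subgroup G) → orderOf z = 2 ∧ ∀ q ∈ (Q : Subgroup G), z * q * z⁻¹ = q⁻¹ := by
    intro Q z hzN hzQ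
    set N := Subgroup.normalizer ((Q : Subgroup G) : Set G) with hN
    have hidx : ((Q : Subgroup G).subgroupOf N).index = 2 := by
      have h := ((Q : Subgroup G).subgroupOf N).card_mul_index
      rw [Nat.card_congr (Subgroup.subgroupOfEquivOfLe Subgroup.le_normalizer).toEquiv, (hQ Q).1,
        (hQ Q).2.2] at h
      omega
    have hcomm : ∀ q ∈ (Q : Subgroup G), ∀ r ∈ (Q : Subgroup G), q * r = r * q := by
      intro q hq r hr
      rw [← (hQ Q).2.1] at hq
      exact (Subgroup.mem_centralizer_iff.1 hq r hr).symm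
    have hmemC : ∀ w ∈ (Q : Subgroup G), w ≠ 1 → z * w = w * z → False := by
      intro w hw hw1 he
      apply hzQ
      rw [← (hQ Q).2.1, Subgroup.mem_centralizer_iff]
      intro r hr
      have hz' : Subgroup.zpowers w = (Q : Subgroup G) :=
        Subgroup.eq_of_le_of_card_ge (Subgroup.zpowers_le.2 hw)
          (by rw [(hQ Q).1, Nat.card_zpowers, hgenQ Q w hw hw1])
      rw [SetLike.mem_coe, ← hz'] at hr
      obtain ⟨i, rfl⟩ := Subgroup.mem_zpowers_iff.1 hr
      exact ((show Commute w z from he.symm).zpow_left i).eq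
    have h2 : z * z ∈ (Q : Subgroup G) := Subgroup.mul_self_mem_of_index_two hidx ⟨z, hzN⟩
    have hzz : z * z = 1 := by
      by_contra hne
      exact hmemC _ h2 hne (mul_assoc z z z).symm
    have hz1 : z ≠ 1 := fun e => hzQ (e ▸ one_mem _)
    refine ⟨orderOf_eq_prime (by rw [pow_two]; exact hzz) hz1, fun q hq => ?_⟩
    have hconjQ : z * q * z⁻¹ ∈ (Q : Subgroup G) := (Subgroup.mem_normalizer_iff.1 hzN q).1 hq
    have hzi : z⁻¹ = z := inv_eq_of_mul_eq_one_right hzz
    by_contra hne
    refine hmemC (q * (z * q * z⁻¹)) (mul_mem hq hconjQ) (fun e => hne (eq_inv_of_mul_eq_one_right e)) ?_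
    have hc := hcomm q hq _ hconjQ
    rw [hzi] at hc ⊢
    calc z * (q * (z * q * z)) = (z * q * z * q) * z := by simp only [mul_assoc]
      _ = q * (z * q * z) * z := by rw [hc]
  have h66 : 66 ≤ (El 2).card := by
    let pairs : Finset (Sylow 11 G × G) := Finset.univ.filter fun Qz =>
      Qz.2 ∈ Subgroup.normalizer ((Qz.1 : Subgroup G) : Set G) ∧ Qz.2 ∉ (Qz.1 : Subgroup G)
    have hpairs : pairs.card = 132 := by
      rw [Finset.card_eq_sum_card_fiberwise (f := Prod.fst) (t := (Finset.univ : Finset (Sylow 11 G)))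
        (fun _ _ => Finset.mem_univ _)]
      have h : ∀ Q ∈ (Finset.univ : Finset (Sylow 11 G)), (pairs.filter fun Qz => Qz.1 = Q).card = 11 := by
        intro Q _
        have e : (pairs.filter fun Qz => Qz.1 = Q) =
            ((Finset.univ.filter fun g => g ∈ Subgroup.normalizer ((Q : Subgroup G) : Set G)) \
              (Finset.univ.filter fun g => g ∈ (Q : Subgroup G))).image (fun g => (Q, g)) := by
          ext ⟨R, g⟩
          simp only [pairs, Finset.mem_filter, Finset.mem_univ, true_and, Finset.mem_image, Finset.mem_sdiff]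
          constructor
          · rintro ⟨h, rfl⟩; exact ⟨g, h, rfl⟩
          · rintro ⟨g', h, he⟩
            obtain ⟨rfl, rfl⟩ := Prod.mk.injEq _ _ _ _ ▸ he
            exact ⟨h, rfl⟩
        rw [e, Finset.card_image_of_injective _ (fun a b h => congrArg Prod.snd h),
          Finset.card_sdiff_of_subset (fun g hg => by
            simp only [Finset.mem_filter, Finset.mem_univ, true_and] at hg ⊢
            exact Subgroup.le_normalizer hg)]
        have h1 : (Finset.univ.filter fun g => g ∈ Subgroup.normalizer ((Q : Subgroup G) : Set G)).card = 22 := by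
          rw [← (hQ Q).2.2, Nat.card_eq_fintype_card, Fintype.card_subtype]
        have h2 : (Finset.univ.filter fun g => g ∈ (Q : Subgroup G)).card = 11 := by
          conv_rhs => rw [← (hQ Q).1]
          rw [Nat.card_eq_fintype_card, Fintype.card_subtype]
        omega
      rw [Finset.sum_congr rfl h, Finset.sum_const, smul_eq_mul, Finset.card_univ, hn11]
    have hfib : ∀ z ∈ pairs.image Prod.snd, (pairs.filter fun Qz => Qz.2 = z).card ≤ 2 := by
      intro z _
      by_contra hbig
      push Not at hbig
      obtain ⟨A, B, C, hA, hB, hC, hAB, hAC, hBC⟩ := Finset.two_lt_card_iff.1 hbig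
      simp only [pairs, Finset.mem_filter, Finset.mem_univ, true_and] at hA hB hC
      obtain ⟨Q1, z1⟩ := A
      obtain ⟨Q2, z2⟩ := B
      obtain ⟨Q3, z3⟩ := C
      simp only at hA hB hC
      obtain ⟨⟨hA1, hA2⟩, rfl⟩ := hA
      obtain ⟨⟨hB1, hB2⟩, rfl⟩ := hB
      obtain ⟨⟨hC1, hC2⟩, rfl⟩ := hC
      have h21 : Q2 ≠ Q1 := fun e => hAB (by rw [e])
      have h31 : Q3 ≠ Q1 := fun e => hAC (by rw [e])
      have h32 : Q3 ≠ Q2 := fun e => hBC (by rw [e])
      obtain ⟨-, hzq⟩ := hinv Q1 _ hA1 hA2
      have hstab : ∀ q ∈ (Q1 : Subgroup G), q • Q2 = Q2 → q = 1 := by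
        intro q hq hfix
        by_contra hq1
        have hmem := (smul_eq_iff_mem Q1 Q2 hq).1 hfix
        have e1 : Subgroup.zpowers q = (Q1 : Subgroup G) :=
          Subgroup.eq_of_le_of_card_ge (Subgroup.zpowers_le.2 hq)
            (by rw [(hQ Q1).1, Nat.card_zpowers, hgenQ Q1 q hq hq1])
        refine h21 (sylow_eq_of_le ?_).symm
        rw [← e1, Subgroup.zpowers_le]
        exact hmem
      have horb : (MulAction.orbit (Q1 : Subgroup G) Q2).ncard = 11 := by
        rw [← MulAction.index_stabilizer]
        have e : MulAction.stabilizer (Q1 : Subgroup G) Q2 = ⊥ := by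
          rw [Subgroup.eq_bot_iff_forall]
          exact fun q hq => Subtype.ext (hstab q q.2 hq)
        rw [e, Subgroup.index_bot, (hQ Q1).1]
      have hQ3 : Q3 ∈ MulAction.orbit (Q1 : Subgroup G) Q2 := by
        have heq : MulAction.orbit (Q1 : Subgroup G) Q2 = Set.univ \ {Q1} := by
          refine Set.eq_of_subset_of_ncard_le
            (fun S hS => ⟨trivial, fun e => notMem_orbit_self h21 (Set.mem_singleton_iff.1 e ▸ hS)⟩) ?_ (Set.toFinite _)
          rw [horb, Set.ncard_sdiff (Set.subset_univ _) (Set.toFinite _), Set.ncard_univ,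
            Nat.card_eq_fintype_card, hn11, Set.ncard_singleton]
        rw [heq]
        exact ⟨trivial, h31⟩
      obtain ⟨⟨q, hq⟩, rfl⟩ := hQ3
      have h := inverted_fix (hzq q hq) (Sylow.smul_eq_iff_mem_normalizer.2 hB1)
        (Sylow.smul_eq_iff_mem_normalizer.2 hC1)
      have hqq := hstab _ (mul_mem hq hq) h
      have hq1 : q = 1 := by
        by_contra hne
        have hd : orderOf q ∣ 2 := orderOf_dvd_of_pow_eq_one (by rw [pow_two]; exact hqq)
        rw [hgenQ Q1 q hq hne] at hd
        omega
      exact h32 (by show (q : G) • Q2 = Q2; rw [hq1, one_smul])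
    have himage : pairs.image Prod.snd ⊆ El 2 := by
      intro z hz
      obtain ⟨⟨Q, w⟩, hw, rfl⟩ := Finset.mem_image.1 hz
      simp only [pairs, Finset.mem_filter, Finset.mem_univ, true_and] at hw
      simp [El, (hinv Q w hw.1 hw.2).1]
    have h := Finset.card_le_mul_card_image pairs 2 hfib
    rw [hpairs] at h
    have := Finset.card_le_card himage
    omega
  -- total
  have hdis : (({1, 11, 3, 6, 2} : Finset ℕ) : Set ℕ).PairwiseDisjoint El := by
    intro a _ b _ hab
    show Disjoint _ _
    rw [Finset.disjoint_left]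
    intro g hga hgb
    simp only [El, Finset.mem_filter, Finset.mem_univ, true_and] at hga hgb
    exact hab (hga.symm.trans hgb)
  have htot := Finset.card_le_univ (({1, 11, 3, 6, 2} : Finset ℕ).biUnion El)
  rw [Finset.card_biUnion hdis, ← Nat.card_eq_fintype_card, hG] at htot
  simp at htot
  have h1 : 0 < (El 1).card := Finset.card_pos.2 ⟨1, by simp [El]⟩
  omega

theorem not_three (hs : Setup G) (h3 : ∀ P : Sylow 3 G, Nat.card (P : Subgroup G) = 3) : False := by
  have key := fun P : Sylow 3 G => three_stabilizer hs P (h3 P)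
  obtain ⟨P⟩ : Nonempty (Sylow 3 G) := inferInstance
  obtain ⟨hmod, hQ⟩ := eleven hs
    (fun R => by
      obtain ⟨r, hr, hd, -, -, -⟩ := key R
      rw [hr]
      intro h
      have h1 : 11 ∣ r := Nat.Coprime.dvd_of_dvd_mul_left (by norm_num) h
      exact absurd (h1.trans hd) (by norm_num))
    (fun g hg R hR => by
      obtain ⟨r, -, -, -, -, h5⟩ := key R
      exact h5 g hg hR) P
  obtain ⟨r, hr, hd, hd3, h70, -⟩ := key P
  rw [hr] at hmod
  have hd' : r ∣ 560 := by
    have h : r ∣ 9 * 560 := hd
    exact (Nat.Coprime.pow_right 2 ((Nat.Prime.coprime_iff_not_dvd Nat.prime_three).2 hd3).symm).dvd_of_dvd_mul_left h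
  have hr4 : r = 4 := by
    have hmem : r ∈ Nat.divisors 560 := Nat.mem_divisors.2 ⟨hd', by norm_num⟩
    have : ∀ k ∈ Nat.divisors 560, 3 * k % 11 = 1 → k = 4 ∨ k = 70 := by decide +kernel
    exact (this r hmem hmod).resolve_right h70
  refine no_order_264 hs h3 ?_ hQ
  rw [card_eq_mul_normalizer hs P, hr, hr4]

/-- The theorem. -/
theorem card_sylow_three_ne (G : Type*) [Group G] [Finite G] : Nat.card (Sylow 3 G) ≠ 22 := by
  classical
  intro hn
  haveI hf := faithful_quotient_permKer (G := G) (p := 3)
  have hn' := (card_sylow_quotient_permKer (G := G) (p := 3)).trans hn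
  set H := G ⧸ (MulAction.toPermHom G (Sylow 3 G)).ker
  haveI : Fintype (Sylow 3 H) := Fintype.ofFinite _
  set f : H →* ℤˣ := (Equiv.Perm.sign).comp (MulAction.toPermHom H (Sylow 3 H)) with hfdef
  haveI : f.ker.Normal := f.normal_ker
  have hle : ∀ P : Sylow 3 H, (P : Subgroup H) ≤ f.ker := fun P =>
    le_of_not_dvd_index f.ker (by
      intro hd
      rw [Subgroup.index_ker] at hd
      have h2 : Nat.card f.range ∣ 2 := by
        have h0 := Subgroup.card_subgroup_dvd_card f.range
        have h1 : Nat.card ℤˣ = 2 := by rw [Nat.card_eq_fintype_card]; rfl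
        rwa [h1] at h0
      exact absurd (hd.trans h2) (by norm_num)) P.isPGroup'
  set M := f.ker with hM
  have hnM : Nat.card (Sylow 3 M) = 22 := (card_sylow_of_forall_le M hle).trans hn'
  have hsurj : Function.Bijective (fun P : Sylow 3 H => P.subtype (hle P)) :=
    (Nat.bijective_iff_injective_and_card _).2
      ⟨fun P R h => Sylow.subtype_injective h, by rw [hnM, hn']⟩
  set e := Equiv.ofBijective _ hsurj
  have heq : ∀ (m : M) (P : Sylow 3 H), m • e P = e ((m : H) • P) := fun m P => Sylow.smul_subtype (hle P) m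
  have hfaith : FaithfulSMul M (Sylow 3 M) := by
    refine ⟨fun {a b} h => Subtype.ext (eq_of_smul_eq_smul (α := Sylow 3 H) fun P => ?_)⟩
    have h1 := h (e P)
    rw [heq, heq] at h1
    exact e.injective h1
  have heven : ∀ g : M, orderOf g = 2 → (MulAction.fixedBy (Sylow 3 M) g).ncard % 4 = 2 := by
    intro g hg
    have himg : MulAction.fixedBy (Sylow 3 M) g = e '' MulAction.fixedBy (Sylow 3 H) (g : H) := by
      ext R
      obtain ⟨P, rfl⟩ := e.surjective R
      constructor
      · intro h
        refine ⟨P, ?_, rfl⟩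
        have h' : g • e P = e P := h
        rw [heq] at h'
        exact e.injective h'
      · rintro ⟨S, hS, hSP⟩
        obtain rfl := e.injective hSP
        show g • e S = e S
        rw [heq, show (g : H) • S = S from hS]
    rw [himg, Set.ncard_image_of_injective _ e.injective]
    set σ := MulAction.toPermHom H (Sylow 3 H) (g : H) with hσdef
    have hg' : orderOf (g : H) = 2 := by rw [Subgroup.orderOf_coe, hg]
    have hσne : σ ≠ 1 := fun h1 => by
      have h0 : (g : H) = 1 := eq_of_smul_eq_smul (α := Sylow 3 H) fun P => by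
        rw [one_smul]
        exact DFunLike.congr_fun h1 P
      rw [h0, orderOf_one] at hg'
      omega
    have hσ : orderOf σ = 2 := orderOf_eq_prime (by
      rw [hσdef, ← map_pow, ← hg', pow_orderOf_eq_one, map_one]) hσne
    obtain ⟨j, hj⟩ := Equiv.Perm.cycleType_prime_order (σ := σ) (by rw [hσ]; exact Nat.prime_two)
    have hsign : Equiv.Perm.sign σ = 1 := by
      have h := MonoidHom.mem_ker.1 g.2
      rw [hfdef, MonoidHom.comp_apply] at h
      exact h
    rw [Equiv.Perm.sign_of_cycleType, hj, hσ, Multiset.sum_replicate, Multiset.card_replicate, smul_eq_mul,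
      show (j + 1) * 2 + (j + 1) = 3 * (j + 1) by ring, neg_one_pow_eq_one_iff_even (by decide)] at hsign
    have hfix : MulAction.fixedBy (Sylow 3 H) (g : H) = ↑(Finset.univ \ σ.support) := by
      ext P
      simp only [Finset.coe_sdiff, Finset.coe_univ, Set.mem_sdiff, Set.mem_univ, true_and, Finset.mem_coe,
        Equiv.Perm.mem_support, not_not]
      rfl
    have hsum := σ.sum_cycleType
    rw [hj, hσ, Multiset.sum_replicate, smul_eq_mul] at hsum
    rw [hfix, Set.ncard_coe_finset, Finset.card_univ_sdiff, ← hsum, ← Nat.card_eq_fintype_card, hn']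
    obtain ⟨i, hi⟩ := hsign
    have hle22 : (j + 1) * 2 ≤ 22 := by
      rw [hsum, ← hn', Nat.card_eq_fintype_card]
      exact Finset.card_le_univ _
    omega
  have hs : Setup M := ⟨hnM, hfaith, heven⟩
  rcases dichotomy hs with h | h
  · exact not_three hs h
  · exact not_nine hs h

end Cfsg.Agent.TwentyTwo
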