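import Cfsg.Agent.Lib.FiniteGroup.TwentyTwo.Types
import Cfsg.Agent.Lib.FiniteGroup.TwentyTwo.Eleven
import Mathlib.GroupTheory.SpecificGroups.Cyclic
import Mathlib.GroupTheory.Perm.Cycle.Type

/-!
Sylow `3`-subgroups of order `9` do not occur among `22`.
-/

set_option autoImplicit false

namespace Cfsg.Agent.TwentyTwo

open Cfsg.Agent.SylowCount

variable {G : Type*} [Group G] [Finite G]

theorem inverted_fix {α : Type*} [MulAction G α] {z y : G} (hzy : z * y * z⁻¹ = y⁻¹) {R : α}
    (hR : z • R = R) (hyR : z • y • R = y • R) : (y * y) • R = R := by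
  have h1 : y⁻¹ • R = y • R := by
    have hR' : z⁻¹ • R = R := by rw [inv_smul_eq_iff]; exact hR.symm
    rw [← hzy, mul_smul, mul_smul, hR']
    exact hyR
  rw [mul_smul, ← h1, smul_inv_smul]

theorem nine_centralizer (hs : Setup G) (hN : Nine G) (P : Sylow 3 G) :
    Subgroup.centralizer ((P : Subgroup G) : Set G) ≤ (P : Subgroup G) := by
  classical
  intro c hc
  obtain ⟨hP, hx⟩ := hN P
  refine mem_of_centralizing hs P (fun x hxP => Subgroup.mem_centralizer_iff.1 hc x hxP) ?_
  intro n R hR
  have hd : ∀ x ∈ (P : Subgroup G), x * c ^ n = c ^ n * x := fun x hxP =>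
    ((show Commute x c from Subgroup.mem_centralizer_iff.1 hc x hxP).pow_right n).eq
  generalize c ^ n = d at hd ⊢
  have hdP : d • P = P := by
    rw [Sylow.smul_eq_iff_mem_normalizer]
    exact Subgroup.centralizer_le_normalizer _ (Subgroup.mem_centralizer_iff.2 hd)
  -- two independent elements
  obtain ⟨a, ha, ha1⟩ : ∃ a ∈ (P : Subgroup G), a ≠ 1 := by
    by_contra hcon
    push Not at hcon
    rw [(Subgroup.eq_bot_iff_forall _).2 hcon, Subgroup.card_bot] at hP
    omega
  obtain ⟨b, hb, hba⟩ : ∃ b ∈ (P : Subgroup G), b ∉ Subgroup.zpowers a := by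
    by_contra hcon
    push Not at hcon
    have := Subgroup.card_le_of_le (show (P : Subgroup G) ≤ Subgroup.zpowers a from hcon)
    rw [hP, Nat.card_zpowers, (hx a ha ha1).1] at this
    omega
  have hb1 : b ≠ 1 := fun e => hba (e ▸ one_mem _)
  have h2 : ∀ y ∈ (P : Subgroup G), y ≠ 1 → (MulAction.fixedBy (Sylow 3 G) y \ {P}).ncard = 3 := by
    intro y hy hy1
    rw [Set.ncard_sdiff (Set.singleton_subset_iff.2 (show P ∈ MulAction.fixedBy (Sylow 3 G) y from
      self_fixed P hy)) (Set.toFinite _), (hx y hy hy1).2, Set.ncard_singleton]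
  have hindep : ∀ S : Sylow 3 G, a • S = S → b • S = S → S = P := by
    intro S haS hbS
    by_contra hSP
    have hlt : Subgroup.zpowers a < (S : Subgroup G) ⊓ P := by
      refine lt_of_le_not_ge (Subgroup.zpowers_le.2 ⟨(smul_eq_iff_mem P S ha).1 haS, ha⟩) ?_
      exact fun h => hba (h ⟨(smul_eq_iff_mem P S hb).1 hbS, hb⟩)
    obtain ⟨k, hk⟩ := IsPGroup.iff_card.1 (P.isPGroup'.to_le (inf_le_right : (S : Subgroup G) ⊓ P ≤ P))
    have h3 : 3 < Nat.card ((S : Subgroup G) ⊓ P : Subgroup G) := by
      refine lt_of_not_ge fun h => hlt.ne ?_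
      exact Subgroup.eq_of_le_of_card_ge hlt.le (by rw [Nat.card_zpowers, (hx a ha ha1).1]; exact h)
    have h9 : Nat.card (P : Subgroup G) ≤ Nat.card ((S : Subgroup G) ⊓ P : Subgroup G) := by
      rw [hP]
      rw [hk] at h3 ⊢
      rcases k with _ | _ | k
      · simp at h3
      · simp at h3
      · exact le_trans (by norm_num) (Nat.pow_le_pow_right (show 1 ≤ 3 by norm_num) (show 2 ≤ k + 1 + 1 by omega))
    have := Subgroup.eq_of_le_of_card_ge (inf_le_right : (S : Subgroup G) ⊓ P ≤ P) h9
    exact hSP (sylow_eq_of_le (this ▸ inf_le_left : (P : Subgroup G) ≤ S)).symm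
  by_cases hnear : ∃ y ∈ (P : Subgroup G), y ≠ 1 ∧ y • R = R
  · obtain ⟨y, hy, hy1, hyR⟩ := hnear
    have hsub : MulAction.orbit (P : Subgroup G) R ⊆ MulAction.fixedBy (Sylow 3 G) y \ {P} := by
      rintro _ ⟨x, rfl⟩
      refine ⟨?_, fun e => notMem_orbit_self hR ⟨x, Set.mem_singleton_iff.1 e⟩⟩
      show y • (x : G) • R = (x : G) • R
      have hxy : y * (x : G) = (x : G) * y := by
        have hcomm := (IsPGroup.commutative_of_card_eq_prime_sq (p := 3) (G := (P : Subgroup G))
          (by rw [hP]; norm_num) ⟨y, hy⟩ x)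
        exact congrArg Subtype.val hcomm
      rw [← mul_smul, hxy, mul_smul, hyR]
    have heq : MulAction.orbit (P : Subgroup G) R = MulAction.fixedBy (Sylow 3 G) y \ {P} := by
      refine Set.eq_of_subset_of_ncard_le hsub ?_ (Set.toFinite _)
      rw [h2 y hy hy1, ncard_orbit]
      rcases relIndex_cases hs hR with h | h <;> omega
    rw [heq]
    refine ⟨?_, fun e => hR (smul_left_cancel d ((Set.mem_singleton_iff.1 e).trans hdP.symm))⟩
    show y • d • R = d • R
    rw [← mul_smul, hd y hy, mul_smul, hyR]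
  · push Not at hnear
    have h9 : ∀ S : Sylow 3 G, S ≠ P → (∀ y ∈ (P : Subgroup G), y ≠ 1 → y • S ≠ S) →
        (MulAction.orbit (P : Subgroup G) S).ncard = 9 := by
      intro S _ hS
      rw [← MulAction.index_stabilizer]
      have e : MulAction.stabilizer (P : Subgroup G) S = ⊥ := by
        rw [Subgroup.eq_bot_iff_forall]
        intro x hx
        by_contra hne
        exact hS x x.2 (fun e => hne (Subtype.ext e)) hx
      rw [e, Subgroup.index_bot, hP]
    by_contra hout
    have hdR : d • R ≠ P := fun e => hR (smul_left_cancel d (e.trans hdP.symm))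
    have hdfree : ∀ y ∈ (P : Subgroup G), y ≠ 1 → y • d • R ≠ d • R := by
      intro y hy hy1 e
      rw [← mul_smul, hd y hy, mul_smul] at e
      exact hnear y hy hy1 (smul_left_cancel d e)
    set A := MulAction.orbit (P : Subgroup G) R with hA
    set B := MulAction.orbit (P : Subgroup G) (d • R) with hB
    set Fa := MulAction.fixedBy (Sylow 3 G) a \ {P} with hFa
    set Fb := MulAction.fixedBy (Sylow 3 G) b \ {P} with hFb
    have hAB : Disjoint A B := by
      rw [Set.disjoint_left]
      intro Z hZA hZB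
      rw [hA, ← MulAction.orbit_eq_iff] at hZA
      rw [hB, ← MulAction.orbit_eq_iff] at hZB
      exact hout (MulAction.orbit_eq_iff.1 (hZB.symm.trans hZA))
    have hfix : ∀ y ∈ (P : Subgroup G), y ≠ 1 → ∀ S : Sylow 3 G,
        (∀ w ∈ (P : Subgroup G), w ≠ 1 → w • S ≠ S) →
        Disjoint (MulAction.fixedBy (Sylow 3 G) y \ {P}) (MulAction.orbit (P : Subgroup G) S) := by
      intro y hy hy1 S hS
      rw [Set.disjoint_left]
      rintro Z ⟨hZ, -⟩ ⟨x, hx'⟩
      have hx'' : (x : G) • S = Z := hx'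
      refine hS ((x : G)⁻¹ * y * x) (mul_mem (mul_mem (inv_mem x.2) hy) x.2) (fun e => hy1 ?_) ?_
      · calc y = x * ((x : G)⁻¹ * y * x) * (x : G)⁻¹ := by group
          _ = 1 := by rw [e]; group
      · rw [mul_smul, mul_smul, hx'', show y • Z = Z from hZ, ← hx'', inv_smul_smul]
    have hab : Disjoint Fa Fb := by
      rw [Set.disjoint_left]
      rintro Z ⟨hZa, hZP⟩ ⟨hZb, -⟩
      exact hZP (hindep Z hZa hZb)
    have hsub : A ∪ B ∪ (Fa ∪ Fb) ⊆ Set.univ \ {P} := by
      rintro Z ((hZ | hZ) | (hZ | hZ))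
      · refine ⟨trivial, fun e => notMem_orbit_self hR ?_⟩
        rw [Set.mem_singleton_iff] at e
        rw [hA, e] at hZ
        exact hZ
      · refine ⟨trivial, fun e => notMem_orbit_self hdR ?_⟩
        rw [Set.mem_singleton_iff] at e
        rw [hB, e] at hZ
        exact hZ
      · exact ⟨trivial, hZ.2⟩
      · exact ⟨trivial, hZ.2⟩
    have hle := Set.ncard_le_ncard hsub (Set.toFinite _)
    rw [Set.ncard_union_eq, Set.ncard_union_eq hAB, Set.ncard_union_eq hab, h9 R hR hnear,
      h9 _ hdR hdfree, h2 a ha ha1, h2 b hb hb1, Set.ncard_sdiff (Set.subset_univ _), ncard_univ_eq hs,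
      Set.ncard_singleton] at hle
    · omega
    · exact Disjoint.union_left
        (Disjoint.union_right (hfix a ha ha1 R hnear).symm (hfix b hb hb1 R hnear).symm)
        (Disjoint.union_right (hfix a ha ha1 _ hdfree).symm (hfix b hb hb1 _ hdfree).symm)

theorem not_nine (hs : Setup G) (hN : Nine G) : False := by
  classical
  haveI : Fact (Nat.Prime 2) := ⟨Nat.prime_two⟩
  obtain ⟨P⟩ : Nonempty (Sylow 3 G) := inferInstance
  -- the automorphisms induced by a normalizer
  have key : ∀ P : Sylow 3 G, ∃ i j : ℕ, i ≤ 8 ∧ j ≤ 6 ∧ ¬ 3 ∣ i * j ∧ ¬ 5 ∣ i * j ∧ ¬ 7 ∣ i * j ∧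
      Nat.card (Subgroup.normalizer ((P : Subgroup G) : Set G)) = 9 * (i * j) ∧
      (2 ∣ j → ∃ a b z : G, a ∈ (P : Subgroup G) ∧ b ∈ (P : Subgroup G) ∧ a ≠ 1 ∧ b ≠ 1 ∧
        orderOf z = 2 ∧ z • P = P ∧ z * a * z⁻¹ = a ∧ z * b * z⁻¹ = b⁻¹) := by
    intro P
    obtain ⟨hP, hx⟩ := hN P
    set N := Subgroup.normalizer ((P : Subgroup G) : Set G) with hNdef
    set φ := (P : Subgroup G).normalizerMonoidHom with hφ
    set I := φ.range with hI
    have hker : φ.ker = (P : Subgroup G).subgroupOf N := by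
      rw [hφ, Subgroup.normalizerMonoidHom_ker]
      apply le_antisymm
      · exact Subgroup.comap_mono (nine_centralizer hs hN P)
      · refine Subgroup.comap_mono (Subgroup.le_centralizer_iff_isMulCommutative.2 ⟨⟨fun u v => ?_⟩⟩)
        exact IsPGroup.commutative_of_card_eq_prime_sq (p := 3) (G := (P : Subgroup G)) (by rw [hP]; norm_num) u v
    have hcardN : Nat.card N = 9 * Nat.card I := by
      rw [hI, ← Subgroup.index_ker, ← φ.ker.card_mul_index]
      congr 1
      rw [hker, Nat.card_congr (Subgroup.subgroupOfEquivOfLe Subgroup.le_normalizer).toEquiv, hP]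
    haveI : Finite (MulAut (P : Subgroup G)) := Finite.of_injective _ DFunLike.coe_injective
    obtain ⟨a, ha, ha1⟩ : ∃ a ∈ (P : Subgroup G), a ≠ 1 := by
      by_contra hcon
      push Not at hcon
      rw [(Subgroup.eq_bot_iff_forall _).2 hcon, Subgroup.card_bot] at hP
      omega
    obtain ⟨b, hb, hba⟩ : ∃ b ∈ (P : Subgroup G), b ∉ Subgroup.zpowers a := by
      by_contra hcon
      push Not at hcon
      have := Subgroup.card_le_of_le (show (P : Subgroup G) ≤ Subgroup.zpowers a from hcon)
      rw [hP, Nat.card_zpowers, (hx a ha ha1).1] at this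
      omega
    set a' : (P : Subgroup G) := ⟨a, ha⟩
    set b' : (P : Subgroup G) := ⟨b, hb⟩
    set Za := Subgroup.zpowers a' with hZa
    have hZa3 : Nat.card Za = 3 := by
      rw [hZa, Nat.card_zpowers, ← Subgroup.orderOf_coe, (hx a ha ha1).1]
    -- an automorphism fixing both generators is trivial
    have htriv : ∀ e : MulAut (P : Subgroup G), e a' = a' → e b' = b' → e = 1 := by
      intro e hea heb
      have hall : (e.toMonoidHom.eqLocus (MonoidHom.id _)) = ⊤ := by
        obtain ⟨k, hk⟩ := IsPGroup.iff_card.1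
          (P.isPGroup'.to_subgroup (e.toMonoidHom.eqLocus (MonoidHom.id _)))
        refine Subgroup.eq_top_of_le_card _ ?_
        have h3 : 3 < Nat.card (e.toMonoidHom.eqLocus (MonoidHom.id _)) := by
          have hlt : Za < e.toMonoidHom.eqLocus (MonoidHom.id _) := by
            refine lt_of_le_not_ge (Subgroup.zpowers_le.2 hea) fun h => hba ?_
            obtain ⟨i, hi⟩ := Subgroup.mem_zpowers_iff.1 (h heb)
            exact Subgroup.mem_zpowers_iff.2 ⟨i, by simpa [a', b'] using congrArg Subtype.val hi⟩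
          refine lt_of_not_ge fun h => hlt.ne ?_
          exact Subgroup.eq_of_le_of_card_ge hlt.le (by rw [hZa3]; exact h)
        rw [hP]
        rw [hk] at h3 ⊢
        rcases k with _ | _ | k
        · simp at h3
        · simp at h3
        · exact le_trans (by norm_num) (Nat.pow_le_pow_right (show 1 ≤ 3 by norm_num) (show 2 ≤ k + 1 + 1 by omega))
      refine MulEquiv.ext fun y => ?_
      exact (show y ∈ e.toMonoidHom.eqLocus (MonoidHom.id _) by rw [hall]; trivial)
    set J := MulAction.stabilizer I a' with hJ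
    refine ⟨(MulAction.orbit I a').ncard, Nat.card J, ?_, ?_, ?_⟩
    · have hsub : MulAction.orbit I a' ⊆ Set.univ \ {1} := by
        rintro _ ⟨e, rfl⟩
        refine ⟨trivial, fun h => ha1 ?_⟩
        have h' : (e : MulAut (P : Subgroup G)) a' = 1 := h
        exact congrArg Subtype.val ((MulEquiv.map_eq_one_iff _).1 h')
      refine (Set.ncard_le_ncard hsub (Set.toFinite _)).trans ?_
      rw [Set.ncard_sdiff (Set.subset_univ _) (Set.toFinite _), Set.ncard_univ, hP, Set.ncard_singleton]
    · have hstab : MulAction.stabilizer J b' = ⊥ := by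
        rw [Subgroup.eq_bot_iff_forall]
        rintro ⟨⟨e, he⟩, hea⟩ heb
        exact Subtype.ext (Subtype.ext (htriv e hea heb))
      have hsub : MulAction.orbit J b' ⊆ Set.univ \ (Za : Set (P : Subgroup G)) := by
        rintro _ ⟨⟨⟨e, he⟩, hea⟩, rfl⟩
        refine ⟨trivial, fun h => hba ?_⟩
        have h' : e b' ∈ Za := h
        obtain ⟨i, hi⟩ := Subgroup.mem_zpowers_iff.1 h'
        have hb' : a' ^ i = b' := e.injective (by rw [map_zpow, show e a' = a' from hea, hi])
        exact Subgroup.mem_zpowers_iff.2 ⟨i, by simpa [a', b'] using congrArg Subtype.val hb'⟩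
      rw [← Subgroup.index_bot, ← hstab, MulAction.index_stabilizer]
      refine (Set.ncard_le_ncard hsub (Set.toFinite _)).trans ?_
      rw [Set.ncard_sdiff (Set.subset_univ _) (Set.toFinite _), Set.ncard_univ, hP,
        ← Nat.card_coe_set_eq, show Nat.card (Za : Set (P : Subgroup G)) = 3 from hZa3]
    have hcI : Nat.card I = (MulAction.orbit I a').ncard * Nat.card J := by
      rw [← MulAction.index_stabilizer, mul_comm, ← hJ, J.card_mul_index]
    rw [← hcI]
    have hsmall : ∀ q : ℕ, q.Prime → q ∣ Nat.card I → q ≠ 3 → q = 2 ∨ ∃ d, d ∣ 9 ∧ d ≠ 9 ∧ d % q = 9 % q := by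
      intro q hq hd hq3
      by_cases hq2 : q = 2
      · exact Or.inl hq2
      haveI : Fact q.Prime := ⟨hq⟩
      obtain ⟨e, he⟩ := exists_prime_orderOf_dvd_card' (G := I) q hd
      refine Or.inr ⟨Nat.card ((e : MulAut (P : Subgroup G)).toMonoidHom.eqLocus (MonoidHom.id _)),
        hP ▸ Subgroup.card_subgroup_dvd_card _, fun h => ?_, ?_⟩
      · have hall := Subgroup.eq_top_of_le_card
          ((e : MulAut (P : Subgroup G)).toMonoidHom.eqLocus (MonoidHom.id _)) (by rw [h, hP])
        have : (e : MulAut (P : Subgroup G)) = 1 := MulEquiv.ext fun y =>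
          (show y ∈ (e : MulAut (P : Subgroup G)).toMonoidHom.eqLocus (MonoidHom.id _) by rw [hall]; trivial)
        rw [← Subgroup.orderOf_coe, this, orderOf_one] at he
        exact hq.one_lt.ne he
      · have hpg : IsPGroup q (Subgroup.zpowers e) :=
          IsPGroup.of_card (n := 1) (by rw [pow_one, Nat.card_zpowers, he])
        have hm := hpg.card_modEq_card_fixedPoints (P : Subgroup G)
        rw [hP] at hm
        refine Eq.trans ?_ hm.symm
        congr 1
        apply Nat.card_congr
        refine Equiv.subtypeEquivRight fun y => ⟨fun hy => ?_, fun hy => hy ⟨e, Subgroup.mem_zpowers e⟩⟩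
        rintro ⟨f, hf⟩
        obtain ⟨n, rfl⟩ := Subgroup.mem_zpowers_iff.1 hf
        exact zpow_mem (show e ∈ MulAction.stabilizer I y from hy) n
    have hnd3 : ¬ 3 ∣ Nat.card I := by
      intro h
      apply P.not_dvd_index
      refine dvd_trans h ?_
      rw [hI, ← Subgroup.index_ker, hker]
      exact Subgroup.relIndex_dvd_index_of_le Subgroup.le_normalizer
    refine ⟨hnd3, ?_, ?_, hcardN, ?_⟩
    · intro h
      rcases hsmall 5 (by norm_num) h (by norm_num) with h2 | ⟨d, hd, hd9, hmod⟩
      · omega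
      · have := Nat.le_of_dvd (by norm_num) hd
        interval_cases d <;> omega
    · intro h
      rcases hsmall 7 (by norm_num) h (by norm_num) with h2 | ⟨d, hd, hd9, hmod⟩
      · omega
      · have := Nat.le_of_dvd (by norm_num) hd
        interval_cases d <;> omega
    · intro hj
      obtain ⟨⟨⟨e, he⟩, hea⟩, hord⟩ := exists_prime_orderOf_dvd_card' (G := J) 2 hj
      have he2 : orderOf e = 2 := by
        rw [← Subgroup.orderOf_coe, ← Subgroup.orderOf_coe] at hord
        exact hord
      obtain ⟨h, rfl⟩ := he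
      have hh2 : h ^ 2 ∈ φ.ker := by rw [MonoidHom.mem_ker, map_pow, ← he2, pow_orderOf_eq_one]
      rw [hker, Subgroup.mem_subgroupOf] at hh2
      have hh6 : (h : G) ^ 6 = 1 := by
        by_cases h1 : ((h ^ 2 : N) : G) = 1
        · rw [show (6 : ℕ) = 2 * 3 by norm_num, pow_mul]
          rw [Subgroup.coe_pow] at h1
          rw [h1, one_pow]
        · have := pow_orderOf_eq_one ((h ^ 2 : N) : G)
          rw [(hx _ hh2 h1).1, Subgroup.coe_pow, ← pow_mul] at this
          exact this
      have hφz : φ (h ^ 3) = φ h := by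
        have hp2 := pow_orderOf_eq_one (φ h)
        rw [he2] at hp2
        rw [map_pow, pow_succ, hp2, one_mul]
      set z : G := ((h ^ 3 : N) : G) with hz
      have hconj : ∀ y : (P : Subgroup G), z * y * z⁻¹ = (φ h y : G) := by
        intro y; rw [← hφz]; rfl
      obtain ⟨c, hc⟩ : ∃ c : (P : Subgroup G), φ h c ≠ c := by
        by_contra hcon
        push Not at hcon
        rw [show φ h = 1 from MulEquiv.ext hcon, orderOf_one] at he2
        omega
      have hinv2 : ∀ y, φ h (φ h y) = y := by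
        intro y
        show (φ h * φ h) y = y
        rw [← pow_two, ← he2, pow_orderOf_eq_one]
        rfl
      refine ⟨a, ((c⁻¹ * φ h c : (P : Subgroup G)) : G), z, ha, SetLike.coe_mem _, ha1, ?_, ?_, ?_, ?_, ?_⟩
      · intro e1
        exact hc (inv_mul_eq_one.1 (Subtype.ext e1 : c⁻¹ * φ h c = 1)).symm
      · refine orderOf_eq_prime ?_ fun e1 => ?_
        · rw [hz, Subgroup.coe_pow, ← pow_mul]; exact hh6
        · have h0 : φ (h ^ 3) = 1 := by rw [show h ^ 3 = 1 from Subtype.ext e1, map_one]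
          rw [← hφz, h0, orderOf_one] at he2
          omega
      · rw [Sylow.smul_eq_iff_mem_normalizer]; exact SetLike.coe_mem _
      · rw [hconj a']; exact congrArg Subtype.val hea
      · rw [hconj _]
        have : φ h (c⁻¹ * φ h c) = (c⁻¹ * φ h c)⁻¹ := by rw [map_mul, map_inv, hinv2, mul_inv_rev, inv_inv]
        rw [this]
        rfl
  obtain ⟨hmod, -⟩ := eleven hs (fun P => by
      obtain ⟨i, j, hi, hj, -, -, -, hc, -⟩ := key P
      rw [hc]
      intro h
      rcases (Nat.Prime.dvd_mul (by norm_num)).1 h with h | h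
      · norm_num at h
      rcases (Nat.Prime.dvd_mul (by norm_num)).1 h with h | h
      all_goals
        rcases Nat.eq_zero_or_pos (i * j) with h0 | h0
        · rw [h0, mul_zero] at hc
          exact Nat.card_pos.ne' hc
        · have h1 := Nat.le_of_dvd (by obtain ⟨u, v⟩ := mul_ne_zero_iff.1 h0.ne'; omega) h
          omega)
    (fun g hg R hR => by
      exfalso
      obtain ⟨i, j, -, -, -, h5, -, hc, -⟩ := key R
      have := Subgroup.orderOf_dvd_natCard _ (Sylow.smul_eq_iff_mem_normalizer.1 hR)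
      change orderOf g ∣ Nat.card (Subgroup.normalizer ((R : Subgroup G) : Set G)) at this
      rw [hg, hc] at this
      exact h5 (Nat.Coprime.dvd_of_dvd_mul_left (by norm_num) this)) P
  obtain ⟨i, j, hi, hj, h3, h5, h7, hc, hinv⟩ := key P
  rw [hc] at hmod
  have hj2 : 2 ∣ j := by
    interval_cases i <;> interval_cases j <;> omega
  obtain ⟨a, b, z, ha, hb, ha1, hb1, hz, hzP, hza, hzb⟩ := hinv hj2
  obtain ⟨hP, hx⟩ := hN P
  have hev := hs.even z hz
  set F := MulAction.fixedBy (Sylow 3 G) z with hF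
  have hz2 : z * z = 1 := by rw [← pow_two, ← hz, pow_orderOf_eq_one]
  have hb3 : b ^ 3 = 1 := by rw [← (hx b hb hb1).1, pow_orderOf_eq_one]
  have hPF : P ∈ F := hzP
  have hab : ∀ S : Sylow 3 G, a • S = S → b • S = S → S = P := by
    intro S haS hbS
    by_contra hSP
    have hba : b ∉ Subgroup.zpowers a := by
      intro h
      obtain ⟨n, hn⟩ := Subgroup.mem_zpowers_iff.1 h
      have : z * b * z⁻¹ = b := by
        rw [← hn, ← conj_zpow, hza]
      rw [hzb] at this
      have h2 : b ^ 2 = 1 := by rw [pow_two]; exact inv_eq_iff_mul_eq_one.1 this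
      apply hb1
      calc b = b ^ 3 * (b ^ 2)⁻¹ := by group
        _ = 1 := by rw [hb3, h2]; group
    have hlt : Subgroup.zpowers a < (S : Subgroup G) ⊓ P := by
      refine lt_of_le_not_ge (Subgroup.zpowers_le.2 ⟨(smul_eq_iff_mem P S ha).1 haS, ha⟩) ?_
      exact fun h => hba (h ⟨(smul_eq_iff_mem P S hb).1 hbS, hb⟩)
    have h3' := card_inf_of_mem_nearSet (P := P) (R := S)
    rcases relIndex_cases hs hSP with h | h
    · have := h3' h
      have hle := Subgroup.eq_of_le_of_card_ge hlt.le (by rw [Nat.card_zpowers, (hx a ha ha1).1]; omega)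
      exact hlt.ne hle
    · have h1 := Subgroup.relIndex_mul_relIndex (⊥ : Subgroup G) ((S : Subgroup G) ⊓ P) (P : Subgroup G)
        bot_le inf_le_right
      rw [Subgroup.relIndex_bot_left, Subgroup.relIndex_bot_left, Subgroup.inf_relIndex_right, h, hP] at h1
      have hbot := Subgroup.card_eq_one.1 (show Nat.card ((S : Subgroup G) ⊓ P : Subgroup G) = 1 by omega)
      exact not_lt_bot (hbot ▸ hlt)
  have hbfix : ∀ y ∈ Subgroup.zpowers b, y ≠ 1 → ∀ R ∈ F, y • R ∈ F → b • R = R := by
    intro y hy hy1 R hR hyR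
    obtain ⟨n, rfl⟩ := Subgroup.mem_zpowers_iff.1 hy
    have hzy : z * b ^ n * z⁻¹ = (b ^ n)⁻¹ := by rw [← conj_zpow, hzb, inv_zpow]
    have h2 := inverted_fix hzy hR hyR
    have hy2 : b ^ n * b ^ n ≠ 1 := by
      intro e
      apply hy1
      have e3 : (b ^ n) ^ 3 = 1 := by rw [← zpow_natCast, zpow_comm, zpow_natCast, hb3, one_zpow]
      calc b ^ n = (b ^ n) ^ 3 * (b ^ n * b ^ n)⁻¹ := by group
        _ = 1 := by rw [e3, e]; group
    have hgen : Subgroup.zpowers (b ^ n * b ^ n) = Subgroup.zpowers b := by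
      refine Subgroup.eq_of_le_of_card_ge (Subgroup.zpowers_le.2 ?_) ?_
      · exact mul_mem (zpow_mem (Subgroup.mem_zpowers b) n) (zpow_mem (Subgroup.mem_zpowers b) n)
      · rw [Nat.card_zpowers, Nat.card_zpowers, (hx b hb hb1).1,
          (hx _ (mul_mem (zpow_mem hb n) (zpow_mem hb n)) hy2).1]
    have hbmem : b ∈ Subgroup.zpowers (b ^ n * b ^ n) := hgen ▸ Subgroup.mem_zpowers b
    obtain ⟨k, hk⟩ := Subgroup.mem_zpowers_iff.1 hbmem
    rw [← hk]
    exact zpow_mem (show b ^ n * b ^ n ∈ MulAction.stabilizer G R from h2) k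
  set Fa := MulAction.fixedBy (Sylow 3 G) a \ {P} with hFa
  set Fb := MulAction.fixedBy (Sylow 3 G) b with hFb
  have hFa3 : Fa.ncard = 3 := by
    rw [hFa, Set.ncard_sdiff (Set.singleton_subset_iff.2 (show P ∈ MulAction.fixedBy (Sylow 3 G) a from
      self_fixed P ha)) (Set.toFinite _), (hx a ha ha1).2, Set.ncard_singleton]
  have hcomm : a * b = b * a := congrArg Subtype.val (IsPGroup.commutative_of_card_eq_prime_sq (p := 3)
    (G := (P : Subgroup G)) (by rw [hP]; norm_num) ⟨a, ha⟩ ⟨b, hb⟩)
  have hzinv : ∀ (S : Set (Sylow 3 G)), (∀ R ∈ S, z • R ∈ S) → S.ncard % 2 = 1 → ∃ R ∈ S, z • R = R := by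
    intro S hS hodd
    by_contra hcon
    push Not at hcon
    have := dvd_ncard (p := 2) (K := Subgroup.zpowers z)
      (IsPGroup.of_card (n := 1) (by rw [pow_one, Nat.card_zpowers, hz])) S
      (fun x hx R hR => by
        obtain ⟨n, rfl⟩ := Subgroup.mem_zpowers_iff.1 hx
        rcases Int.even_or_odd' n with ⟨m, rfl | rfl⟩
        · rw [zpow_mul, zpow_two, hz2, one_zpow, one_smul]; exact hR
        · rw [zpow_add_one, zpow_mul, zpow_two, hz2, one_zpow, one_mul]; exact hS R hR)
      (fun R hR => ⟨z, Subgroup.mem_zpowers z, hcon R hR⟩)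
    omega
  -- one fixed point among those of `a`
  have hone : (F ∩ Fa).ncard = 1 := by
    refine le_antisymm ?_ ?_
    · have h := card_mul_ncard_le (Subgroup.zpowers b) (F ∩ Fa) Fa Set.inter_subset_right
        (fun x hx R hR => ?_) (fun y hy hy1 R hR hyR => hR.2.2 (hab R hR.2.1 (hbfix y hy hy1 R hR.1 hyR.1)))
      · rw [Nat.card_zpowers, (hN P).2 b hb hb1 |>.1, hFa3] at h
        omega
      · obtain ⟨n, rfl⟩ := Subgroup.mem_zpowers_iff.1 hx
        refine ⟨?_, fun e => hR.2 ?_⟩
        · show a • b ^ n • R = b ^ n • R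
          rw [← mul_smul, ((show Commute a b from hcomm).zpow_right n).eq, mul_smul, show a • R = R from hR.1]
        · exact smul_left_cancel _ ((Set.mem_singleton_iff.1 e).trans (self_fixed P (zpow_mem hb n)).symm)
    · obtain ⟨R, hR, hzR⟩ := hzinv Fa (fun R hR => ⟨by
        show a • z • R = z • R
        rw [← mul_smul, show a * z = z * a by rw [← mul_inv_eq_iff_eq_mul.1 hza], mul_smul, show a • R = R from hR.1],
        fun e => hR.2 (smul_left_cancel z ((Set.mem_singleton_iff.1 e).trans hzP.symm))⟩) (by rw [hFa3])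
      exact (Set.ncard_pos (Set.toFinite _)).2 ⟨R, hzR, hR⟩
  -- the others come in threes
  have hthree : 3 ∣ (F \ MulAction.fixedBy (Sylow 3 G) a).ncard := by
    refine dvd_ncard (K := Subgroup.zpowers a)
      (IsPGroup.of_card (n := 1) (by rw [pow_one, Nat.card_zpowers, (hN P).2 a ha ha1 |>.1])) _ ?_ ?_
    · intro x hx R hR
      obtain ⟨n, rfl⟩ := Subgroup.mem_zpowers_iff.1 hx
      refine ⟨?_, fun e => hR.2 ?_⟩
      · show z • a ^ n • R = a ^ n • R
        have hc' : Commute z a := mul_inv_eq_iff_eq_mul.1 hza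
        rw [← mul_smul, (hc'.zpow_right n).eq, mul_smul, show z • R = R from hR.1]
      · show a • R = R
        have e' : a • a ^ n • R = a ^ n • R := e
        rw [← mul_smul, ← zpow_one_add, add_comm, zpow_add_one, mul_smul] at e'
        exact smul_left_cancel _ e'
    · exact fun R hR => ⟨a, Subgroup.mem_zpowers a, hR.2⟩
  have hsplit : F.ncard = 2 + (F \ MulAction.fixedBy (Sylow 3 G) a).ncard := by
    have h1 := Set.ncard_inter_add_ncard_sdiff_eq_ncard F (MulAction.fixedBy (Sylow 3 G) a) (Set.toFinite _)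
    have e : F ∩ MulAction.fixedBy (Sylow 3 G) a = insert P (F ∩ Fa) := by
      ext R
      by_cases hR : R = P
      · subst hR
        simp only [Set.mem_inter_iff, Set.mem_insert_iff, true_or, iff_true]
        exact ⟨hPF, self_fixed R ha⟩
      · simp [hFa, hR]
    rw [e, Set.ncard_insert_of_notMem (fun h => h.2.2 rfl) (Set.toFinite _), hone] at h1
    omega
  have hpos : 0 < (F \ MulAction.fixedBy (Sylow 3 G) a).ncard := by
    obtain ⟨R, hR, hzR⟩ := hzinv (Fb \ {P}) (fun R hR => ⟨by
        show b • z • R = z • R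
        have hzb' : b * z = z * b⁻¹ := by
          rw [← hzb]
          calc b * z = (z * z) * b * z := by rw [hz2, one_mul]
            _ = z * (z * b * z⁻¹) := by
              rw [show z⁻¹ = z from inv_eq_of_mul_eq_one_right hz2]; group
        rw [← mul_smul, hzb', mul_smul, inv_smul_eq_iff.2 (show b • R = R from hR.1).symm],
        fun e => hR.2 (smul_left_cancel z ((Set.mem_singleton_iff.1 e).trans hzP.symm))⟩) (by
      rw [Set.ncard_sdiff (Set.singleton_subset_iff.2 (show P ∈ Fb from self_fixed P hb)) (Set.toFinite _),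
        (hx b hb hb1).2, Set.ncard_singleton])
    exact (Set.ncard_pos (Set.toFinite _)).2 ⟨R, hzR, fun e => hR.2 (hab R e hR.1)⟩
  have hbound : 3 * (F \ Fb).ncard ≤ 18 := by
    have h := card_mul_ncard_le (Subgroup.zpowers b) (F \ Fb) (Set.univ \ Fb)
      (fun R hR => ⟨trivial, hR.2⟩) (fun x hx R hR => ⟨trivial, fun e => hR.2 ?_⟩)
      (fun y hy hy1 R hR hyR => hR.2 (hbfix y hy hy1 R hR.1 hyR.1))
    · rw [Nat.card_zpowers, (hN P).2 b hb hb1 |>.1, Set.ncard_sdiff (Set.subset_univ _) (Set.toFinite _),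
        ncard_univ_eq hs, (hx b hb hb1).2] at h
      omega
    · obtain ⟨n, rfl⟩ := Subgroup.mem_zpowers_iff.1 hx
      have e' : b • b ^ n • R = b ^ n • R := e
      rw [← mul_smul, ← zpow_one_add, add_comm, zpow_add_one, mul_smul] at e'
      exact smul_left_cancel _ e'
  have hbnd : F.ncard ≤ 10 := by
    have h1 := Set.ncard_inter_add_ncard_sdiff_eq_ncard F Fb (Set.toFinite _)
    have h2 : (F ∩ Fb).ncard ≤ 4 :=
      (Set.ncard_le_ncard Set.inter_subset_right (Set.toFinite _)).trans (hx b hb hb1).2.le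
    omega
  omega

end Cfsg.Agent.TwentyTwo
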