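import Mathlib.GroupTheory.Sylow
import Mathlib.GroupTheory.Perm.Cycle.Type
import Mathlib.GroupTheory.SpecificGroups.Cyclic
import Mathlib.Tactic.NormNum.Prime

/-!
The symmetric group of degree `7` has no subgroup of order `70`.
-/

set_option autoImplicit false

namespace Cfsg.Agent.TwentyTwo

theorem card_ne_seventy {β : Type*} [Finite β] (hβ : Nat.card β = 7) (I : Subgroup (Equiv.Perm β)) :
    Nat.card I ≠ 70 := by
  classical
  haveI : Fintype β := Fintype.ofFinite _
  intro hI
  haveI : Fact (Nat.Prime 7) := ⟨by norm_num⟩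
  haveI : Fact (Nat.Prime 5) := ⟨by norm_num⟩
  obtain ⟨U⟩ : Nonempty (Sylow 7 I) := inferInstance
  have hU : Nat.card (U : Subgroup I) = 7 := by
    rw [U.card_eq_multiplicity, hI, show (70 : ℕ) = 7 * 10 by norm_num,
      Nat.factorization_mul (by norm_num) (by norm_num), Finsupp.add_apply,
      Nat.Prime.factorization_self (by norm_num), Nat.factorization_eq_zero_of_not_dvd (by norm_num)]
    norm_num
  have hidx : (U : Subgroup I).index = 10 := by
    have := (U : Subgroup I).card_mul_index
    rw [hU, hI] at this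
    omega
  have hnorm : Subgroup.normalizer ((U : Subgroup I) : Set I) = ⊤ := by
    rw [← Subgroup.index_eq_one]
    change (Subgroup.normalizer ((U : Subgroup I) : Set I)).index = 1
    have h1 := card_sylow_modEq_one 7 I
    have h2 := U.card_dvd_index
    rw [hidx] at h2
    rw [U.card_eq_index_normalizer] at h1 h2
    change (Subgroup.normalizer ((U : Subgroup I) : Set I)).index % 7 = 1 % 7 at h1
    change (Subgroup.normalizer ((U : Subgroup I) : Set I)).index ∣ 10 at h2
    have := Nat.le_of_dvd (by norm_num) h2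
    generalize (Subgroup.normalizer ((U : Subgroup I) : Set I)).index = k at h1 h2 this ⊢
    interval_cases k <;> omega
  obtain ⟨v, hv⟩ := exists_prime_orderOf_dvd_card' (G := I) 5 (by rw [hI]; norm_num)
  obtain ⟨u, hu⟩ := exists_prime_orderOf_dvd_card' (G := (U : Subgroup I)) 7 (by rw [hU])
  haveI := isCyclic_of_prime_card (α := (U : Subgroup I)) hU
  have hvN : v ∈ Subgroup.normalizer ((U : Subgroup I) : Set I) := by rw [hnorm]; trivial
  have hφ : (U : Subgroup I).normalizerMonoidHom ⟨v, hvN⟩ = 1 := by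
    rw [← orderOf_eq_one_iff]
    refine Nat.eq_one_of_dvd_coprimes (show Nat.Coprime 5 6 by norm_num) ?_ ?_
    · have h0 : orderOf (⟨v, hvN⟩ : Subgroup.normalizer ((U : Subgroup I) : Set I)) = 5 := by
        rw [← Subgroup.orderOf_coe]; exact hv
      exact h0 ▸ orderOf_map_dvd _ _
    · refine (orderOf_dvd_natCard _).trans ?_
      rw [IsCyclic.card_mulAut, hU, Nat.totient_prime (by norm_num)]
  have hcomm : Commute (v : Equiv.Perm β) ((u : I) : Equiv.Perm β) := by
    have h := congrArg Subtype.val (DFunLike.congr_fun hφ u)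
    have h' : v * (u : I) * v⁻¹ = (u : I) := h
    exact congrArg Subtype.val (mul_inv_eq_iff_eq_mul.1 h')
  set σ : Equiv.Perm β := ((u : I) : Equiv.Perm β) with hσdef
  set τ : Equiv.Perm β := (v : Equiv.Perm β) with hτdef
  have hσ : orderOf σ = 7 := by rw [hσdef, Subgroup.orderOf_coe, Subgroup.orderOf_coe, hu]
  have hτ : orderOf τ = 5 := by rw [hτdef, Subgroup.orderOf_coe, hv]
  have hcyc : σ.IsCycle := Equiv.Perm.isCycle_of_prime_order' (by rw [hσ]; norm_num) (by
    rw [hσ, ← Nat.card_eq_fintype_card, hβ]; norm_num)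
  have hsupp : σ.support = Finset.univ := Finset.eq_univ_of_card _ (by
    rw [← hcyc.orderOf, hσ, ← Nat.card_eq_fintype_card, hβ])
  obtain ⟨a, ha⟩ : ∃ a, τ a = a := by
    by_contra hcon
    push Not at hcon
    obtain ⟨n, hn⟩ := Equiv.Perm.cycleType_prime_order (σ := τ) (by rw [hτ]; norm_num)
    have hsum := τ.sum_cycleType
    rw [Finset.eq_univ_iff_forall.2 (fun x => Equiv.Perm.mem_support.2 (hcon x)), Finset.card_univ,
      ← Nat.card_eq_fintype_card, hβ, hn, hτ, Multiset.sum_replicate, smul_eq_mul] at hsum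
    omega
  have hall : τ = 1 := by
    apply Equiv.ext
    intro x
    obtain ⟨i, rfl⟩ := hcyc.exists_zpow_eq
      (Equiv.Perm.mem_support.1 (by rw [hsupp]; exact Finset.mem_univ a))
      (Equiv.Perm.mem_support.1 (by rw [hsupp]; exact Finset.mem_univ x))
    show (τ * σ ^ i) a = (σ ^ i) a
    rw [(hcomm.zpow_right i).eq, Equiv.Perm.mul_apply, ha]
  rw [hall, orderOf_one] at hτ
  omega

end Cfsg.Agent.TwentyTwo
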