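import Cfsg.Agent.Lib.FiniteGroup.TwentyTwo.NineCase
import Cfsg.Agent.Lib.FiniteGroup.TwentyTwo.Perm
import Mathlib.GroupTheory.Perm.Support

/-!
Sylow `3`-subgroups of order `3` do not occur among `22`.
-/

set_option autoImplicit false

namespace Cfsg.Agent.TwentyTwo

open Cfsg.Agent.SylowCount

variable {G : Type*} [Group G] [Finite G]

theorem fix_three {P : Sylow 3 G} (hP : Nat.card (P : Subgroup G) = 3) {x : G}
    (hx : x ∈ (P : Subgroup G)) (hx1 : x ≠ 1) {R : Sylow 3 G} (hR : x • R = R) : R = P := by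
  refine (sylow_eq_of_le ?_).symm
  have hz : Subgroup.zpowers x = (P : Subgroup G) := by
    refine Subgroup.eq_of_le_of_card_ge (Subgroup.zpowers_le.2 hx) ?_
    have hd : orderOf x ∣ 3 := hP ▸ Subgroup.orderOf_dvd_natCard _ hx
    rw [hP, Nat.card_zpowers, ((Nat.dvd_prime Nat.prime_three).1 hd).resolve_left
      (fun e => hx1 (orderOf_eq_one_iff.1 e))]
  rw [← hz, Subgroup.zpowers_le]
  exact (smul_eq_iff_mem P R hx).1 hR

theorem orbit_three (hs : Setup G) {P R : Sylow 3 G} (hP : Nat.card (P : Subgroup G) = 3) (hR : R ≠ P) :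
    (MulAction.orbit (P : Subgroup G) R).ncard = 3 := by
  rw [ncard_orbit]
  rcases relIndex_cases hs hR with h | h
  · exact h
  · exfalso
    have h2 := Subgroup.relIndex_dvd_card (R : Subgroup G) (P : Subgroup G)
    rw [h, hP] at h2
    omega

/-- The structure of a point stabilizer. -/
theorem three_stabilizer (hs : Setup G) (P : Sylow 3 G) (hP : Nat.card (P : Subgroup G) = 3) :
    ∃ r, Nat.card (Subgroup.normalizer ((P : Subgroup G) : Set G)) = 3 * r ∧ r ∣ 5040 ∧ ¬ 3 ∣ r ∧
      r ≠ 70 ∧ ∀ g : G, orderOf g = 5 → g • P = P → 2 < (MulAction.fixedBy (Sylow 3 G) g).ncard := by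
  classical
  haveI : Fintype (Sylow 3 G) := Fintype.ofFinite _
  haveI : Fact (Nat.Prime 2) := ⟨Nat.prime_two⟩
  haveI : Fact (Nat.Prime 5) := ⟨by norm_num⟩
  set N := Subgroup.normalizer ((P : Subgroup G) : Set G) with hNdef
  let O : Type _ := {s : Set (Sylow 3 G) // ∃ R, R ≠ P ∧ MulAction.orbit (P : Subgroup G) R = s}
  have hfixP : ∀ h : N, (h : G) • P = P := fun h => Sylow.smul_eq_iff_mem_normalizer.2 h.2
  have himg : ∀ (h : N) (R : Sylow 3 G),
      (fun S => (h : G) • S) '' MulAction.orbit (P : Subgroup G) R =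
        MulAction.orbit (P : Subgroup G) ((h : G) • R) := by
    intro h R
    ext S
    constructor
    · rintro ⟨_, ⟨x, rfl⟩, rfl⟩
      refine ⟨⟨(h : G) * x * (h : G)⁻¹, (Subgroup.mem_normalizer_iff.1 h.2 x).1 x.2⟩, ?_⟩
      show ((h : G) * x * (h : G)⁻¹) • (h : G) • R = (h : G) • (x : G) • R
      rw [← mul_smul, inv_mul_cancel_right, mul_smul]
    · rintro ⟨x, rfl⟩
      refine ⟨((h : G)⁻¹ * x * h) • R, ⟨⟨(h : G)⁻¹ * x * h, ?_⟩, rfl⟩, ?_⟩
      · have := (Subgroup.mem_normalizer_iff.1 (inv_mem h.2) x).1 x.2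
        rwa [inv_inv] at this
      · show (h : G) • ((h : G)⁻¹ * x * h) • R = (x : G) • (h : G) • R
        rw [← mul_smul, ← mul_smul, mul_assoc, mul_inv_cancel_left]
  letI : MulAction N O :=
    { smul := fun h s => ⟨(fun S => (h : G) • S) '' s.1, by
        obtain ⟨R, hR, he⟩ := s.2
        exact ⟨(h : G) • R, fun e => hR (smul_left_cancel (h : G) (e.trans (hfixP h).symm)),
          by rw [← he, himg]⟩⟩
      one_smul := fun s => Subtype.ext (by
        show (fun S => ((1 : N) : G) • S) '' s.1 = s.1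
        simp)
      mul_smul := fun a b s => Subtype.ext (by
        show (fun S => ((a * b : N) : G) • S) '' s.1 = (fun S => (a : G) • S) '' ((fun S => (b : G) • S) '' s.1)
        rw [Set.image_image]
        simp [mul_smul]) }
  -- seven orbits
  have hO : Nat.card O = 7 := by
    let im := (Finset.univ.erase P).image fun R : Sylow 3 G => MulAction.orbit (P : Subgroup G) R
    have e : O ≃ {s // s ∈ im} := Equiv.subtypeEquivRight fun s => by simp [im]
    rw [Nat.card_congr e, Nat.card_eq_fintype_card, Fintype.card_coe]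
    have h1 : (Finset.univ.erase P).card = 21 := by
      rw [Finset.card_erase_of_mem (Finset.mem_univ _), Finset.card_univ, ← Nat.card_eq_fintype_card,
        hs.card_sylow]
    rw [Finset.card_eq_sum_card_image (fun R : Sylow 3 G => MulAction.orbit (P : Subgroup G) R)] at h1
    have h2 : ∀ s ∈ im, ((Finset.univ.erase P).filter fun R : Sylow 3 G =>
        MulAction.orbit (P : Subgroup G) R = s).card = 3 := by
      intro s hs'
      obtain ⟨R, hR, rfl⟩ := Finset.mem_image.1 hs'
      refine Eq.trans ?_ (orbit_three hs hP (Finset.ne_of_mem_erase hR))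
      rw [← Set.ncard_coe_finset]
      congr 1
      ext S
      simp only [Finset.coe_filter, Finset.mem_erase, Finset.mem_univ, and_true]
      show S ≠ P ∧ MulAction.orbit (P : Subgroup G) S = MulAction.orbit (P : Subgroup G) R ↔ _
      rw [MulAction.orbit_eq_iff]
      refine ⟨fun h => h.2, fun h => ⟨fun e' => ?_, h⟩⟩
      subst e'
      exact notMem_orbit_self (Finset.ne_of_mem_erase hR) h
    rw [Finset.sum_congr rfl h2, Finset.sum_const, smul_eq_mul] at h1
    omega
  haveI : Finite O := Nat.finite_of_card_ne_zero (by rw [hO]; norm_num)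
  have hfixO : ∀ (h : N) (R : Sylow 3 G) (hR : R ≠ P),
      h • (⟨MulAction.orbit (P : Subgroup G) R, R, hR, rfl⟩ : O) = ⟨MulAction.orbit (P : Subgroup G) R, R, hR, rfl⟩ →
      (h : G) • R ∈ MulAction.orbit (P : Subgroup G) R := by
    intro h R hR e
    have e' : (fun S => (h : G) • S) '' MulAction.orbit (P : Subgroup G) R =
        MulAction.orbit (P : Subgroup G) R := congrArg Subtype.val e
    rw [← e']
    exact ⟨R, MulAction.mem_orbit_self R, rfl⟩
  set ψ := MulAction.toPermHom N O with hψ
  have hkerO : ∀ h ∈ ψ.ker, ∀ R : Sylow 3 G, R ≠ P → (h : G) • R ∈ MulAction.orbit (P : Subgroup G) R :=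
    fun h hh R hR => hfixO h R hR (DFunLike.congr_fun (MonoidHom.mem_ker.1 hh) _)
  -- conjugation on `P`
  obtain ⟨x, hx, hx1⟩ : ∃ x ∈ (P : Subgroup G), x ≠ 1 := by
    by_contra hcon
    push Not at hcon
    rw [(Subgroup.eq_bot_iff_forall _).2 hcon, Subgroup.card_bot] at hP
    omega
  have hx3 : orderOf x = 3 := by
    have hd : orderOf x ∣ 3 := hP ▸ Subgroup.orderOf_dvd_natCard _ hx
    exact ((Nat.dvd_prime Nat.prime_three).1 hd).resolve_left fun e => hx1 (orderOf_eq_one_iff.1 e)
  have hz : Subgroup.zpowers x = (P : Subgroup G) :=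
    Subgroup.eq_of_le_of_card_ge (Subgroup.zpowers_le.2 hx) (by rw [hP, Nat.card_zpowers, hx3])
  have hconj : ∀ h : N, (h : G) * x * (h : G)⁻¹ = x ∨ (h : G) * x * (h : G)⁻¹ = x⁻¹ := by
    intro h
    have hy : (h : G) * x * (h : G)⁻¹ ∈ Subgroup.zpowers x := by
      rw [hz]; exact (Subgroup.mem_normalizer_iff.1 h.2 x).1 hx
    obtain ⟨i, hi⟩ := Subgroup.mem_zpowers_iff.1 hy
    have hi' : x ^ (i % 3) = (h : G) * x * (h : G)⁻¹ := by
      rw [← hi, ← zpow_mod_orderOf x i, hx3]; rfl
    have : i % 3 = 0 ∨ i % 3 = 1 ∨ i % 3 = 2 := by omega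
    rcases this with e | e | e <;> rw [e] at hi'
    · exfalso
      rw [zpow_zero] at hi'
      exact hx1 (conj_eq_one_iff.1 hi'.symm)
    · left; rw [← hi', zpow_one]
    · right
      rw [← hi', eq_inv_iff_mul_eq_one, show (2 : ℤ) = ((2 : ℕ) : ℤ) from rfl, zpow_natCast, ← pow_succ,
        show 2 + 1 = orderOf x by rw [hx3], pow_orderOf_eq_one]
  have hcent : ∀ d : G, d * x * d⁻¹ = x → ∀ y ∈ (P : Subgroup G), y * d = d * y := by
    intro d hd y hy
    rw [← hz] at hy
    obtain ⟨i, rfl⟩ := Subgroup.mem_zpowers_iff.1 hy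
    exact ((show Commute x d from (mul_inv_eq_iff_eq_mul.1 hd).symm).zpow_left i).eq
  have hsq : ∀ h : N, ((h ^ 2 : N) : G) * x * ((h ^ 2 : N) : G)⁻¹ = x := by
    intro h
    rcases hconj h with e | e
    all_goals
      rw [Subgroup.coe_pow, pow_two]
      calc (h : G) * h * x * ((h : G) * h)⁻¹ = h * ((h : G) * x * (h : G)⁻¹) * (h : G)⁻¹ := by group
        _ = x := by
          rw [e]
          first
            | exact e
            | (rw [← inv_inj, mul_inv_rev, mul_inv_rev, inv_inv, inv_inv, ← mul_assoc]; exact e)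
  have hmemP : ∀ h ∈ ψ.ker, (h : G) * x * (h : G)⁻¹ = x → (h : G) ∈ (P : Subgroup G) := by
    intro h hh he
    refine mem_of_centralizing hs P (hcent _ he) fun n R hR => ?_
    rw [← Subgroup.coe_pow]
    exact hkerO _ (pow_mem hh n) R hR
  have hker : ψ.ker = (P : Subgroup G).subgroupOf N := by
    apply le_antisymm
    · intro h hh
      rw [Subgroup.mem_subgroupOf]
      have h2 := hmemP _ (pow_mem hh 2) (hsq h)
      have h6 : (h : G) ^ 6 = 1 := by
        have h3 : ((h ^ 2 : N) : G) ^ 3 = 1 := by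
          rw [← hx3]
          have hd : orderOf ((h ^ 2 : N) : G) ∣ orderOf x := by
            rw [hx3, ← hP]; exact Subgroup.orderOf_dvd_natCard _ h2
          exact orderOf_dvd_iff_pow_eq_one.1 hd
        rw [Subgroup.coe_pow, ← pow_mul] at h3
        exact h3
      by_cases hz1 : (h : G) ^ 3 = 1
      · rw [Subgroup.coe_pow] at h2
        have e : (h : G) = ((h : G) ^ 2) ^ 2 := by
          rw [← pow_mul, show 2 * 2 = 3 + 1 by norm_num, pow_succ, hz1, one_mul]
        rw [e]
        exact pow_mem h2 2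
      exfalso
      set z : G := ((h ^ 3 : N) : G) with hzdef
      have hzker : h ^ 3 ∈ ψ.ker := pow_mem hh 3
      have hzz : z = (h : G) ^ 3 := Subgroup.coe_pow _ _ _
      have hz2 : orderOf z = 2 := orderOf_eq_prime (by rw [hzz, ← pow_mul]; exact h6) (by rw [hzz]; exact hz1)
      have hzx : z * x * z⁻¹ = x⁻¹ := (hconj (h ^ 3)).resolve_left fun e => by
        have hmem := hmemP _ hzker e
        have hd := Subgroup.orderOf_dvd_natCard _ hmem
        change orderOf z ∣ _ at hd
        rw [hz2, hP] at hd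
        omega
      have hev := hs.even z hz2
      set F := MulAction.fixedBy (Sylow 3 G) z with hF
      have hPF : P ∈ F := hfixP (h ^ 3)
      have hupper : (F \ {P}).ncard ≤ 7 := by
        have h1 := card_mul_ncard_le (P : Subgroup G) (F \ {P}) (Set.univ \ {P})
          (fun R hR => ⟨trivial, hR.2⟩)
          (fun y hy R hR => ⟨trivial, fun e => hR.2
            (smul_left_cancel y ((Set.mem_singleton_iff.1 e).trans (self_fixed P hy).symm))⟩)
          (fun y hy hy1 R hR hyR => by
            have hzy : z * y * z⁻¹ = y⁻¹ := by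
              rw [← hz] at hy
              obtain ⟨i, rfl⟩ := Subgroup.mem_zpowers_iff.1 hy
              rw [← conj_zpow, hzx, inv_zpow]
            have h2' := inverted_fix hzy hR.1 hyR.1
            have hy3 : y ^ 3 = 1 := by
              have hd : orderOf y ∣ 3 := hP ▸ Subgroup.orderOf_dvd_natCard _ hy
              exact orderOf_dvd_iff_pow_eq_one.1 hd
            refine hR.2 (fix_three hP (mul_mem hy hy) (fun e => hy1 ?_) h2')
            calc y = y ^ 3 * (y * y)⁻¹ := by group
              _ = 1 := by rw [hy3, e]; group)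
        rw [hP, Set.ncard_sdiff (Set.subset_univ _) (Set.toFinite {P}), ncard_univ_eq hs,
          Set.ncard_singleton] at h1
        omega
      have hlower : 7 ≤ (F \ {P}).ncard := by
        have hex : ∀ s : O, ∃ R ∈ s.1, R ∈ F \ {P} := by
          rintro ⟨s, R, hR, rfl⟩
          by_contra hcon
          push Not at hcon
          have hinv : ∀ S ∈ MulAction.orbit (P : Subgroup G) R, z • S ∈ MulAction.orbit (P : Subgroup G) R := by
            intro S hS
            have hS' : S ≠ P := fun e => notMem_orbit_self hR (e ▸ hS)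
            rw [← MulAction.orbit_eq_iff.2 hS]
            exact hkerO _ hzker S hS'
          have hd := dvd_ncard (p := 2) (K := Subgroup.zpowers z)
            (IsPGroup.of_card (n := 1) (by rw [pow_one, Nat.card_zpowers, hz2]))
            (MulAction.orbit (P : Subgroup G) R)
            (fun y hy S hS => by
              have hzz2 : z ^ (2 : ℤ) = 1 := by
                rw [show (2 : ℤ) = ((2 : ℕ) : ℤ) from rfl, zpow_natCast, ← hz2, pow_orderOf_eq_one]
              obtain ⟨n, rfl⟩ := Subgroup.mem_zpowers_iff.1 hy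
              rcases Int.even_or_odd' n with ⟨m, rfl | rfl⟩
              · rw [zpow_mul, hzz2, one_zpow, one_smul]; exact hS
              · rw [zpow_add_one, zpow_mul, hzz2, one_zpow, one_mul]; exact hinv S hS)
            (fun S hS => ⟨z, Subgroup.mem_zpowers z, fun e =>
              hcon S hS ⟨e, fun e' => notMem_orbit_self hR (Set.mem_singleton_iff.1 e' ▸ hS)⟩⟩)
          rw [orbit_three hs hP hR] at hd
          omega
        choose f hf1 hf2 using hex
        rw [← hO, ← Nat.card_coe_set_eq]
        refine Nat.card_le_card_of_injective (fun s => (⟨f s, hf2 s⟩ : ↥(F \ {P}))) ?_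
        intro s t hst
        have hst' : f s = f t := congrArg Subtype.val hst
        obtain ⟨Rs, -, hes⟩ := s.2
        obtain ⟨Rt, -, het⟩ := t.2
        have h1 := hf1 s
        have h2 := hf1 t
        rw [← hes, ← MulAction.orbit_eq_iff] at h1
        rw [← het, ← MulAction.orbit_eq_iff, ← hst'] at h2
        exact Subtype.ext (hes.symm.trans ((h1.symm.trans h2).trans het))
      rw [Set.ncard_sdiff (Set.singleton_subset_iff.2 hPF) (Set.toFinite _), Set.ncard_singleton] at hupper hlower
      omega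
    · intro h hh
      rw [Subgroup.mem_subgroupOf] at hh
      rw [MonoidHom.mem_ker]
      refine Equiv.ext fun s => Subtype.ext ?_
      obtain ⟨R, hR, he⟩ := s.2
      show (fun S => (h : G) • S) '' s.1 = s.1
      rw [← he, himg, MulAction.orbit_eq_iff]
      exact ⟨⟨(h : G), hh⟩, rfl⟩
  refine ⟨Nat.card ψ.range, ?_, ?_, ?_, card_ne_seventy hO _, ?_⟩
  · rw [← Subgroup.index_ker, ← ψ.ker.card_mul_index]
    congr 1
    rw [hker, Nat.card_congr (Subgroup.subgroupOfEquivOfLe Subgroup.le_normalizer).toEquiv, hP]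
  · refine (Subgroup.card_subgroup_dvd_card _).trans ?_
    rw [Nat.card_perm, hO]
    rfl
  · rw [← Subgroup.index_ker, hker]
    exact fun h => P.not_dvd_index (h.trans (Subgroup.relIndex_dvd_index_of_le Subgroup.le_normalizer))
  · intro g hg hgP
    set g' : N := ⟨g, Sylow.smul_eq_iff_mem_normalizer.1 hgP⟩ with hg'
    have hord : orderOf g' = 5 := by rw [← Subgroup.orderOf_coe]; exact hg
    have hpg : IsPGroup 5 (Subgroup.zpowers g') :=
      IsPGroup.of_card (n := 1) (by rw [pow_one, Nat.card_zpowers, hord])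
    have hmod := hpg.card_modEq_card_fixedPoints O
    rw [hO] at hmod
    obtain ⟨⟨⟨s, R, hR, rfl⟩, hfix⟩⟩ : Nonempty (MulAction.fixedPoints (Subgroup.zpowers g') O) := by
      rw [← not_isEmpty_iff]
      intro hE
      rw [Nat.card_of_isEmpty] at hmod
      exact absurd hmod (by decide)
    have hgR := hfixO g' R hR (hfix ⟨g', Subgroup.mem_zpowers g'⟩)
    have hgx : g * x * g⁻¹ = x := by
      rcases hconj g' with e | e
      · exact e
      exfalso
      have h5 : g ^ 5 = 1 := by rw [← hg, pow_orderOf_eq_one]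
      have e2 := hsq g'
      rw [Subgroup.coe_pow] at e2
      change g ^ 2 * x * (g ^ 2)⁻¹ = x at e2
      have hc4 : Commute (g ^ 4) x := by
        rw [show 4 = 2 * 2 by norm_num, pow_mul]
        exact (show Commute (g ^ 2) x from mul_inv_eq_iff_eq_mul.1 e2).pow_left 2
      have hg4 : g ^ 4 = g⁻¹ := eq_inv_of_mul_eq_one_left (by rw [← pow_succ, h5])
      rw [hg4] at hc4
      have hc1 : Commute g x := Commute.inv_left_iff.1 hc4
      have e3 : g * x * g⁻¹ = x := mul_inv_eq_iff_eq_mul.2 hc1.eq
      have e4 : x⁻¹ = x := (show g * x * g⁻¹ = x⁻¹ from e).symm.trans e3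
      apply hx1
      have h2 : x ^ 2 = 1 := by rw [pow_two]; exact inv_eq_iff_mul_eq_one.1 e4
      calc x = x ^ 3 * (x ^ 2)⁻¹ := by group
        _ = 1 := by rw [h2, ← hx3, pow_orderOf_eq_one]; group
    have hall : ∀ S ∈ MulAction.orbit (P : Subgroup G) R, g • S = S := by
      intro S hS
      refine smul_eq_of_mem_orbit P.isPGroup' (hcent g hgx) (by rw [hg]; norm_num) ?_
      rw [MulAction.orbit_eq_iff.2 hS]
      obtain ⟨y, rfl⟩ := hS
      show g • (y : G) • R ∈ _
      rw [← mul_smul, ← hcent g hgx y y.2, mul_smul]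
      exact MulAction.mem_orbit_of_mem_orbit y hgR
    have hsub : insert P (MulAction.orbit (P : Subgroup G) R) ⊆ MulAction.fixedBy (Sylow 3 G) g := by
      rintro S (rfl | hS)
      · exact hgP
      · exact hall S hS
    have := Set.ncard_le_ncard hsub (Set.toFinite _)
    rw [Set.ncard_insert_of_notMem (notMem_orbit_self hR) (Set.toFinite _), orbit_three hs hP hR] at this
    omega

end Cfsg.Agent.TwentyTwo
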