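import Cfsg.Agent.Lib.FiniteGroup.TwentyTwo.Basic

/-!
Sylow `3`-subgroups of order `9`: they are elementary abelian, and every nontrivial element fixes
four of the `22` Sylow subgroups.
-/

set_option autoImplicit false

namespace Cfsg.Agent.TwentyTwo

open Cfsg.Agent.SylowCount

variable {G : Type*} [Group G] [Finite G]

/-- The type with Sylow subgroups of order `9`. -/
def Nine (G : Type*) [Group G] : Prop :=
  ∀ P : Sylow 3 G, Nat.card (P : Subgroup G) = 9 ∧
    ∀ x ∈ (P : Subgroup G), x ≠ 1 → orderOf x = 3 ∧ (MulAction.fixedBy (Sylow 3 G) x).ncard = 4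

theorem ncard_orbit_of_le {P : Sylow 3 G} {D : Subgroup G} (hDP : D ≤ (P : Subgroup G))
    (R : Sylow 3 G) : (MulAction.orbit D R).ncard = (R : Subgroup G).relIndex D := by
  rw [← MulAction.index_stabilizer]
  have e : MulAction.stabilizer D R = (R : Subgroup G).subgroupOf D := by
    ext x
    rw [MulAction.mem_stabilizer_iff, Subgroup.mem_subgroupOf]
    exact smul_eq_iff_mem P R (hDP x.2)
  rw [e]
  rfl

theorem notMem_nearSet_self (P : Sylow 3 G) : P ∉ nearSet P := fun h => by
  have h' : (P : Subgroup G).relIndex P = 3 := h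
  rw [Subgroup.relIndex_self] at h'
  omega

theorem nine_of_profile (hs : Setup G)
    (h : ∀ P : Sylow 3 G, (nearSet P).ncard = 12 ∧
      ∀ R ∈ nearSet P, (fixSet ((R : Subgroup G) ⊓ P)).ncard = 4) : Nine G := by
  classical
  haveI : Fintype (Sylow 3 G) := Fintype.ofFinite _
  haveI := hs.faithful
  intro P
  obtain ⟨hnear, hfour⟩ := h P
  have hins : ∀ A : Sylow 3 G, (insert A (nearSet A)).ncard = 13 := fun A => by
    rw [Set.ncard_insert_of_notMem (notMem_nearSet_self A) (Set.toFinite _), (h A).1]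
  set far := Set.univ \ insert P (nearSet P) with hfar
  have hfarcard : far.ncard = 9 := by
    rw [hfar, Set.ncard_sdiff (Set.subset_univ _) (Set.toFinite _), ncard_univ_eq hs, hins P]
  obtain ⟨R₀, hR₀⟩ : far.Nonempty := by
    rw [← Set.ncard_pos (Set.toFinite _), hfarcard]; norm_num
  have hfar9 : ∀ R ∈ far, (R : Subgroup G).relIndex P = 9 := by
    rintro R ⟨-, hR⟩
    rw [Set.mem_insert_iff, not_or] at hR
    exact (relIndex_cases hs hR.1).resolve_left hR.2
  have hfarinv : ∀ x ∈ (P : Subgroup G), ∀ R ∈ far, x • R ∈ far := by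
    rintro x hx R ⟨-, hR⟩
    rw [Set.mem_insert_iff, not_or] at hR
    refine ⟨trivial, ?_⟩
    rw [Set.mem_insert_iff, not_or]
    refine ⟨fun e => hR.1 (smul_left_cancel x (e.trans (self_fixed P hx).symm)), fun e => hR.2 ?_⟩
    apply (smul_mem_nearSet (g := x)).1
    rw [self_fixed P hx]
    exact e
  have hgood : ∀ T ∈ nearSet P, ∀ R ∈ far,
      (R : Subgroup G).relIndex ((T : Subgroup G) ⊓ P : Subgroup G) ≤ 3 := by
    intro T hT R hR
    by_contra hbig
    push Not at hbig
    set D := (T : Subgroup G) ⊓ P with hD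
    have hle9 : (R : Subgroup G).relIndex D ≤ 9 := by
      rw [← hfar9 R hR]
      exact Subgroup.relIndex_le_of_le_right inf_le_right Subgroup.index_ne_zero_of_finite
    have horbsub : ∀ R' ∈ far, MulAction.orbit D R' ⊆ far := by
      rintro R' hR' _ ⟨x, rfl⟩
      exact hfarinv x x.2.2 R' hR'
    have hall : ∀ R' ∈ far, (R' : Subgroup G).relIndex D = 9 := by
      have h9 : (R : Subgroup G).relIndex D = 9 := by
        obtain ⟨k, hk⟩ := (P.isPGroup'.to_le (inf_le_right : D ≤ (P : Subgroup G))).index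
          ((R : Subgroup G).subgroupOf D)
        change (R : Subgroup G).relIndex D = 3 ^ k at hk
        rw [hk] at hbig hle9 ⊢
        rcases k with _ | _ | _ | k
        · simp at hbig
        · simp at hbig
        · rfl
        · have : 3 ^ 3 ≤ 3 ^ (k + 3) := Nat.pow_le_pow_right (by norm_num) (by omega)
          omega
      intro R' hR'
      have hR'orb : R' ∈ MulAction.orbit D R := by
        rw [Set.eq_of_subset_of_ncard_le (horbsub R hR)
          (by rw [hfarcard, ncard_orbit_of_le inf_le_right, h9]) (Set.toFinite _)]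
        exact hR'
      rw [← ncard_orbit_of_le (inf_le_right : D ≤ (P : Subgroup G)), MulAction.orbit_eq_iff.2 hR'orb,
        ncard_orbit_of_le (inf_le_right : D ≤ (P : Subgroup G)), h9]
    have hS : ∀ A : Sylow 3 G, D ≤ (A : Subgroup G) → insert A (nearSet A) = insert P (nearSet P) := by
      intro A hA
      refine Set.eq_of_subset_of_ncard_le ?_ (by rw [hins, hins]) (Set.toFinite _)
      intro R' hR'
      by_contra hnot
      have h9 := hall R' ⟨trivial, hnot⟩
      rcases Set.mem_insert_iff.1 hR' with rfl | hR''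
      · rw [Subgroup.relIndex_eq_one.2 hA] at h9
        omega
      · have h3 := Subgroup.relIndex_le_of_le_right (H := (R' : Subgroup G)) hA
          Subgroup.index_ne_zero_of_finite
        rw [show (R' : Subgroup G).relIndex A = 3 from hR''] at h3
        omega
    let r : Sylow 3 G → Sylow 3 G → Prop := fun a b => insert a (nearSet a) = insert b (nearSet b)
    have hr : Equivalence r := ⟨fun _ => rfl, fun e => e.symm, fun e e' => e.trans e'⟩
    have hinv : ∀ (g : G) a b, r a b → r (g • a) (g • b) := by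
      intro g a b hab
      have himg : ∀ c : Sylow 3 G, insert (g • c) (nearSet (g • c)) =
          (fun S => g • S) '' insert c (nearSet c) := by
        intro c
        rw [Set.image_insert_eq]
        congr 1
        ext S
        constructor
        · intro hS'
          refine ⟨g⁻¹ • S, ?_, smul_inv_smul g S⟩
          apply (smul_mem_nearSet (g := g)).1
          rw [smul_inv_smul]
          exact hS'
        · rintro ⟨S', hS', rfl⟩
          exact smul_mem_nearSet.2 hS'
      show _ = _
      rw [himg, himg, show insert a (nearSet a) = insert b (nearSet b) from hab]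
    have hTP : T ≠ P := fun e => notMem_nearSet_self P (e ▸ hT)
    have hR0 := block hs r hr hinv (show r P T from (hS T inf_le_left).symm) hTP R
    exact hR.2 (show R ∈ insert P (nearSet P) by
      rw [show insert P (nearSet P) = insert R (nearSet R) from hR0]
      exact Set.mem_insert _ _)
  -- intersections of index nine lie in those of index three
  have hinfle : ∀ T ∈ nearSet P, ∀ R ∈ far,
      (R : Subgroup G) ⊓ P ≤ (T : Subgroup G) ⊓ P := by
    intro T hT R hR
    have h1 := Subgroup.relIndex_mul_relIndex (⊥ : Subgroup G) ((R : Subgroup G) ⊓ P) (P : Subgroup G)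
      bot_le inf_le_right
    rw [Subgroup.relIndex_bot_left, Subgroup.relIndex_bot_left, Subgroup.inf_relIndex_right, hfar9 R hR] at h1
    have h2 := Subgroup.relIndex_mul_relIndex (⊥ : Subgroup G)
      ((R : Subgroup G) ⊓ ((T : Subgroup G) ⊓ P)) ((T : Subgroup G) ⊓ P) bot_le inf_le_right
    rw [Subgroup.relIndex_bot_left, Subgroup.relIndex_bot_left, Subgroup.inf_relIndex_right] at h2
    have h3 := card_inf_of_mem_nearSet hT
    have h4 := hgood T hT R hR
    have hle : (R : Subgroup G) ⊓ ((T : Subgroup G) ⊓ P) ≤ (R : Subgroup G) ⊓ P :=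
      inf_le_inf_left _ inf_le_right
    have he := Subgroup.eq_of_le_of_card_ge hle (by nlinarith [Nat.card_pos (α := ((R : Subgroup G) ⊓ ((T : Subgroup G) ⊓ P) : Subgroup G))])
    rw [← he]
    exact inf_le_right
  obtain ⟨T₁, hT₁⟩ : (nearSet P).Nonempty := by
    rw [← Set.ncard_pos (Set.toFinite _), hnear]; norm_num
  obtain ⟨T₂, hT₂, hT12⟩ : ∃ T₂ ∈ nearSet P, ¬ (T₁ : Subgroup G) ⊓ P ≤ T₂ := by
    by_contra hcon
    push Not at hcon
    have hsub : nearSet P ⊆ fixSet ((T₁ : Subgroup G) ⊓ P) := fun T hT => hcon T hT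
    have := Set.ncard_le_ncard hsub (Set.toFinite _)
    rw [hnear, hfour T₁ hT₁] at this
    omega
  set D₁ := (T₁ : Subgroup G) ⊓ P with hD₁
  set D₂ := (T₂ : Subgroup G) ⊓ P with hD₂
  have hE : ∀ R ∈ far, (R : Subgroup G) ⊓ P = D₁ ⊓ D₂ := by
    intro R hR
    refine Subgroup.eq_of_le_of_card_ge (le_inf (hinfle T₁ hT₁ R hR) (hinfle T₂ hT₂ R hR)) ?_
    have h1 := Subgroup.relIndex_mul_relIndex (⊥ : Subgroup G) ((R : Subgroup G) ⊓ P) (P : Subgroup G)
      bot_le inf_le_right
    rw [Subgroup.relIndex_bot_left, Subgroup.relIndex_bot_left, Subgroup.inf_relIndex_right, hfar9 R hR] at h1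
    have h2 := Subgroup.relIndex_mul_relIndex (⊥ : Subgroup G) (D₁ ⊓ D₂) D₁ bot_le inf_le_left
    rw [Subgroup.relIndex_bot_left, Subgroup.relIndex_bot_left, Subgroup.inf_relIndex_left] at h2
    have h3 : Nat.card D₁ * 3 = Nat.card (P : Subgroup G) := card_inf_of_mem_nearSet hT₁
    have hne1 : D₂.relIndex D₁ ≠ 1 := fun e => hT12 (fun x hx => (Subgroup.relIndex_eq_one.1 e hx).1)
    have hle3 : D₂.relIndex D₁ ≤ 3 := by
      refine (Subgroup.relIndex_le_of_le_right (inf_le_right : D₁ ≤ (P : Subgroup G))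
        Subgroup.index_ne_zero_of_finite).trans_eq ?_
      rw [hD₂, Subgroup.inf_relIndex_right]
      exact hT₂
    obtain ⟨k, hk⟩ := (P.isPGroup'.to_le (inf_le_right : D₁ ≤ (P : Subgroup G))).index (D₂.subgroupOf D₁)
    change D₂.relIndex D₁ = 3 ^ k at hk
    have : D₂.relIndex D₁ = 3 := by
      rcases k with _ | _ | k
      · exact absurd hk hne1
      · simpa using hk
      · rw [hk] at hle3
        have : 3 ^ 2 ≤ 3 ^ (k + 1 + 1) := Nat.pow_le_pow_right (by norm_num) (by omega)
        omega
    rw [this] at h2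
    omega
  have hbot : ∀ R ∈ far, (R : Subgroup G) ⊓ P = ⊥ := by
    intro R hR
    rw [Subgroup.eq_bot_iff_forall]
    intro x hx
    refine eq_one_of_forall_fixed hs fun S => (smul_eq_iff_mem P S hx.2).2 ?_
    by_cases hSP : S = P
    · rw [hSP]; exact hx.2
    by_cases hSn : S ∈ nearSet P
    · exact (hinfle S hSn R hR hx).1
    · have hSfar : S ∈ far := ⟨trivial, by rw [Set.mem_insert_iff, not_or]; exact ⟨hSP, hSn⟩⟩
      have hx' : x ∈ D₁ ⊓ D₂ := hE R hR ▸ hx
      rw [← hE S hSfar] at hx'
      exact hx'.1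
  have hcard : Nat.card (P : Subgroup G) = 9 := by
    have h1 := Subgroup.relIndex_mul_relIndex (⊥ : Subgroup G) ((R₀ : Subgroup G) ⊓ P) (P : Subgroup G)
      bot_le inf_le_right
    rw [Subgroup.relIndex_bot_left, Subgroup.relIndex_bot_left, Subgroup.inf_relIndex_right, hfar9 R₀ hR₀,
      hbot R₀ hR₀, Subgroup.card_bot, one_mul] at h1
    exact h1.symm
  refine ⟨hcard, ?_⟩
  -- the four subgroups of order three cover `P`
  let near := (nearSet P).toFinset
  let S := near.image fun R : Sylow 3 G => (R : Subgroup G) ⊓ P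
  have hS4 : S.card * 3 = 12 := by
    rw [← hnear, Set.ncard_eq_toFinset_card', Finset.card_eq_sum_card_image
      (fun R : Sylow 3 G => (R : Subgroup G) ⊓ P), ← smul_eq_mul, ← Finset.sum_const]
    refine Finset.sum_congr rfl fun D hD => ?_
    obtain ⟨T, hT, rfl⟩ := Finset.mem_image.1 hD
    have hT' : T ∈ nearSet P := Set.mem_toFinset.1 hT
    have e : (fixSet ((T : Subgroup G) ⊓ P) \ {P}).ncard = 3 := by
      rw [Set.ncard_sdiff (Set.singleton_subset_iff.2 (show P ∈ fixSet ((T : Subgroup G) ⊓ P) from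
        (inf_le_right : (T : Subgroup G) ⊓ P ≤ P))) (Set.toFinite _), hfour T hT', Set.ncard_singleton]
    refine e.symm.trans ?_
    rw [← Set.ncard_coe_finset]
    congr 1
    ext R
    simp only [Finset.coe_filter, Set.mem_toFinset, Set.mem_sdiff, Set.mem_singleton_iff]
    constructor
    · rintro ⟨hR, hne⟩
      obtain ⟨he, hn⟩ := inf_eq_of_le hs inf_le_right hR hne (card_inf_of_mem_nearSet hT')
      exact ⟨hn, he⟩
    · rintro ⟨hR, he⟩
      exact ⟨he ▸ (inf_le_left : (R : Subgroup G) ⊓ P ≤ R), fun e' => notMem_nearSet_self P (e' ▸ hR)⟩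
  have hS3 : ∀ D ∈ S, D ≤ (P : Subgroup G) ∧ Nat.card D = 3 := by
    intro D hD
    obtain ⟨T, hT, rfl⟩ := Finset.mem_image.1 hD
    have := card_inf_of_mem_nearSet (Set.mem_toFinset.1 hT)
    exact ⟨inf_le_right, by omega⟩
  intro x hx hx1
  obtain ⟨D, hD, hxD⟩ : ∃ D ∈ S, x ∈ D := by
    by_contra hcon
    push Not at hcon
    haveI : Fintype G := Fintype.ofFinite _
    let A : Subgroup G → Finset G := fun D => Finset.univ.filter fun y => y ∈ D ∧ y ≠ 1
    have hA : ∀ D ∈ S, (A D).card = 2 := by
      intro D hD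
      have h1 : (Finset.univ.filter fun y : G => y ∈ D).card = 3 := by
        rw [← (hS3 D hD).2, Nat.card_eq_fintype_card, Fintype.card_subtype]
      have e : A D = (Finset.univ.filter fun y : G => y ∈ D).erase 1 := by
        ext y; simp [A, and_comm]
      rw [e, Finset.card_erase_of_mem (by simp [one_mem]), h1]
    have hdisj : (S : Set (Subgroup G)).PairwiseDisjoint A := by
      intro D hD E hE hne
      show Disjoint (A D) (A E)
      rw [Finset.disjoint_left]
      intro y hyD hyE
      simp only [A, Finset.mem_filter, Finset.mem_univ, true_and] at hyD hyE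
      apply hne
      have hy : ∀ F ∈ S, y ∈ F → Subgroup.zpowers y = F := by
        intro F hF hyF
        refine Subgroup.eq_of_le_of_card_ge (Subgroup.zpowers_le.2 hyF) ?_
        rw [(hS3 F hF).2, Nat.card_zpowers]
        have hd : orderOf y ∣ 3 := by
          rw [← (hS3 F hF).2]; exact Subgroup.orderOf_dvd_natCard _ hyF
        rcases (Nat.dvd_prime Nat.prime_three).1 hd with h | h
        · exact absurd (orderOf_eq_one_iff.1 h) hyD.2
        · omega
      rw [← hy D hD hyD.1, hy E hE hyE.1]
    have hsub : S.biUnion A ⊆ ((Finset.univ.filter fun y : G => y ∈ (P : Subgroup G)).erase 1).erase x := by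
      intro y hy
      obtain ⟨D, hD, hyD⟩ := Finset.mem_biUnion.1 hy
      simp only [A, Finset.mem_filter, Finset.mem_univ, true_and] at hyD
      simp only [Finset.mem_erase, Finset.mem_filter, Finset.mem_univ, true_and]
      exact ⟨fun e => hcon D hD (e ▸ hyD.1), hyD.2, (hS3 D hD).1 hyD.1⟩
    have h1 := Finset.card_le_card hsub
    rw [Finset.card_biUnion hdisj, Finset.sum_congr rfl hA, Finset.sum_const, smul_eq_mul,
      Finset.card_erase_of_mem (by simp [hx, hx1]), Finset.card_erase_of_mem (by simp [one_mem]),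
      show (Finset.univ.filter fun y : G => y ∈ (P : Subgroup G)).card = 9 by
        rw [← hcard, Nat.card_eq_fintype_card, Fintype.card_subtype]] at h1
    omega
  obtain ⟨T, hT, rfl⟩ := Finset.mem_image.1 hD
  have hord : orderOf x = 3 := by
    have hd : orderOf x ∣ 3 := by
      rw [← (hS3 _ hD).2]; exact Subgroup.orderOf_dvd_natCard _ hxD
    exact ((Nat.dvd_prime Nat.prime_three).1 hd).resolve_left fun e => hx1 (orderOf_eq_one_iff.1 e)
  refine ⟨hord, ?_⟩
  rw [← hfour T (Set.mem_toFinset.1 hT)]
  congr 1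
  ext R
  show x • R = R ↔ (T : Subgroup G) ⊓ P ≤ R
  rw [smul_eq_iff_mem P R hx]
  have hz : Subgroup.zpowers x = (T : Subgroup G) ⊓ P :=
    Subgroup.eq_of_le_of_card_ge (Subgroup.zpowers_le.2 hxD) (by rw [Nat.card_zpowers, hord, (hS3 _ hD).2])
  rw [← hz, Subgroup.zpowers_le]

/-- The two possible types. -/
theorem dichotomy (hs : Setup G) : (∀ P : Sylow 3 G, Nat.card (P : Subgroup G) = 3) ∨ Nine G :=
  (near_profile hs).imp_right (nine_of_profile hs)

end Cfsg.Agent.TwentyTwo
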